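import Cfsg.Agent.Lib.LyDC.OrbitData

/-! Orbit chains of the stabilisers. -/

set_option maxRecDepth 100000

namespace Cfsg.Agent.Lib.LyDC

theorem lev1_0_run : orbRun (fstL lev1_0G) lev1_0E lev1_0M.1 lev1_0M.2 = true := by decide +kernel

theorem lev1_0_start : lev1_0M.1 = 1 <<< 5 := by decide +kernel

theorem lev1_0_count : countBits lev1_0M.2 = 150 := by decide +kernel

theorem lev1_0_gens : deriv.gensOK numItems 1 lev1_0G = true := by decide +kernel

theorem lev1_1_run : orbRun (fstL lev1_1G) lev1_1E lev1_1M.1 lev1_1M.2 = true := by decide +kernel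

theorem lev1_1_start : lev1_1M.1 = 1 <<< 6 := by decide +kernel

theorem lev1_1_count : countBits lev1_1M.2 = 100 := by decide +kernel

theorem lev1_1_gens : deriv.gensOK numItems 1 lev1_1G = true := by decide +kernel

theorem lev1_1_fix : fixOK (fstL lev1_1G) [5] = true := by decide +kernel

theorem lev1_2_run : orbRun (fstL lev1_2G) lev1_2E lev1_2M.1 lev1_2M.2 = true := by decide +kernel

theorem lev1_2_start : lev1_2M.1 = 1 <<< 8 := by decide +kernel

theorem lev1_2_count : countBits lev1_2M.2 = 20 := by decide +kernel

theorem lev1_2_gens : deriv.gensOK numItems 1 lev1_2G = true := by decide +kernel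

theorem lev1_2_fix : fixOK (fstL lev1_2G) [5, 6] = true := by decide +kernel

theorem lev2_0_run : orbRun (fstL lev2_0G) lev2_0E lev2_0M.1 lev2_0M.2 = true := by decide +kernel

theorem lev2_0_start : lev2_0M.1 = 1 <<< 0 := by decide +kernel

theorem lev2_0_count : countBits lev2_0M.2 = 63 := by decide +kernel

theorem lev2_0_gens : deriv.gensOK numItems 2 lev2_0G = true := by decide +kernel

theorem lev2_1_run : orbRun (fstL lev2_1G) lev2_1E lev2_1M.1 lev2_1M.2 = true := by decide +kernel

theorem lev2_1_start : lev2_1M.1 = 1 <<< 5 := by decide +kernel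

theorem lev2_1_count : countBits lev2_1M.2 = 24 := by decide +kernel

theorem lev2_1_gens : deriv.gensOK numItems 2 lev2_1G = true := by decide +kernel

theorem lev2_1_fix : fixOK (fstL lev2_1G) [0] = true := by decide +kernel

theorem lev2_2_run : orbRun (fstL lev2_2G) lev2_2E lev2_2M.1 lev2_2M.2 = true := by decide +kernel

theorem lev2_2_start : lev2_2M.1 = 1 <<< 6 := by decide +kernel

theorem lev2_2_count : countBits lev2_2M.2 = 4 := by decide +kernel

theorem lev2_2_gens : deriv.gensOK numItems 2 lev2_2G = true := by decide +kernel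

theorem lev2_2_fix : fixOK (fstL lev2_2G) [0, 5] = true := by decide +kernel

theorem lev3_0_run : orbRun (fstL lev3_0G) lev3_0E lev3_0M.1 lev3_0M.2 = true := by decide +kernel

theorem lev3_0_start : lev3_0M.1 = 1 <<< 0 := by decide +kernel

theorem lev3_0_count : countBits lev3_0M.2 = 36 := by decide +kernel

theorem lev3_0_gens : deriv.gensOK numItems 3 lev3_0G = true := by decide +kernel

theorem lev3_1_run : orbRun (fstL lev3_1G) lev3_1E lev3_1M.1 lev3_1M.2 = true := by decide +kernel

theorem lev3_1_start : lev3_1M.1 = 1 <<< 5 := by decide +kernel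

theorem lev3_1_count : countBits lev3_1M.2 = 16 := by decide +kernel

theorem lev3_1_gens : deriv.gensOK numItems 3 lev3_1G = true := by decide +kernel

theorem lev3_1_fix : fixOK (fstL lev3_1G) [0] = true := by decide +kernel

theorem lev3_2_run : orbRun (fstL lev3_2G) lev3_2E lev3_2M.1 lev3_2M.2 = true := by decide +kernel

theorem lev3_2_start : lev3_2M.1 = 1 <<< 6 := by decide +kernel

theorem lev3_2_count : countBits lev3_2M.2 = 5 := by decide +kernel

theorem lev3_2_gens : deriv.gensOK numItems 3 lev3_2G = true := by decide +kernel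

theorem lev3_2_fix : fixOK (fstL lev3_2G) [0, 5] = true := by decide +kernel

theorem lev4_0_run : orbRun (fstL lev4_0G) lev4_0E lev4_0M.1 lev4_0M.2 = true := by decide +kernel

theorem lev4_0_start : lev4_0M.1 = 1 <<< 0 := by decide +kernel

theorem lev4_0_count : countBits lev4_0M.2 = 42 := by decide +kernel

theorem lev4_0_gens : deriv.gensOK numItems 4 lev4_0G = true := by decide +kernel

theorem lev4_1_run : orbRun (fstL lev4_1G) lev4_1E lev4_1M.1 lev4_1M.2 = true := by decide +kernel

theorem lev4_1_start : lev4_1M.1 = 1 <<< 5 := by decide +kernel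

theorem lev4_1_count : countBits lev4_1M.2 = 24 := by decide +kernel

theorem lev4_1_gens : deriv.gensOK numItems 4 lev4_1G = true := by decide +kernel

theorem lev4_1_fix : fixOK (fstL lev4_1G) [0] = true := by decide +kernel

end Cfsg.Agent.Lib.LyDC
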