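import Cfsg.Agent.Lib.LyDC.OrbitData

/-! The letters are transitive on the points. -/

set_option maxRecDepth 100000

namespace Cfsg.Agent.Lib.LyDC

theorem cov0_run : orbRun cov0G cov0E cov0M.1 cov0M.2 = true := by decide +kernel

theorem cov0_full : fullMask cov0M.2 = true := by decide +kernel

theorem cov0_start : cov0M.1 = 1 := by decide +kernel

end Cfsg.Agent.Lib.LyDC
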