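import Cfsg.Agent.Lib.LyDC.OrbitData

/-! The stabiliser of the coset 1 and the roots reach every point. -/

set_option maxRecDepth 100000

namespace Cfsg.Agent.Lib.LyDC

theorem cov1_run : orbRun (fstL cov1G) cov1E cov1M.1 cov1M.2 = true := by decide +kernel

theorem cov1_full : fullMask cov1M.2 = true := by decide +kernel

theorem cov1_gens : deriv.gensOK numItems 1 cov1G = true := by decide +kernel

theorem cov1_roots : deriv.rootsOK numItems 1 cov1R cov1M.1 = true := by decide +kernel

end Cfsg.Agent.Lib.LyDC
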