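import Cfsg.Agent.Lib.LyDC.OrbitData

/-! The stabiliser of the coset 2 and the roots reach every point. -/

set_option maxRecDepth 100000

namespace Cfsg.Agent.Lib.LyDC

theorem cov2_run : orbRun (fstL cov2G) cov2E cov2M.1 cov2M.2 = true := by decide +kernel

theorem cov2_full : fullMask cov2M.2 = true := by decide +kernel

theorem cov2_gens : deriv.gensOK numItems 2 cov2G = true := by decide +kernel

theorem cov2_roots : deriv.rootsOK numItems 2 cov2R cov2M.1 = true := by decide +kernel

end Cfsg.Agent.Lib.LyDC
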