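import Cfsg.Agent.Lib.LyDC.OrbitData

/-! The stabiliser of the coset 3 and the roots reach every point. -/

set_option maxRecDepth 100000

namespace Cfsg.Agent.Lib.LyDC

theorem cov3_run : orbRun (fstL cov3G) cov3E cov3M.1 cov3M.2 = true := by decide +kernel

theorem cov3_full : fullMask cov3M.2 = true := by decide +kernel

theorem cov3_gens : deriv.gensOK numItems 3 cov3G = true := by decide +kernel

theorem cov3_roots : deriv.rootsOK numItems 3 cov3R cov3M.1 = true := by decide +kernel

end Cfsg.Agent.Lib.LyDC
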