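import Cfsg.Agent.Lib.LyDC.OrbitData

/-! The stabiliser of the coset 4 and the roots reach every point. -/

set_option maxRecDepth 100000

namespace Cfsg.Agent.Lib.LyDC

theorem cov4_run : orbRun (fstL cov4G) cov4E cov4M.1 cov4M.2 = true := by decide +kernel

theorem cov4_full : fullMask cov4M.2 = true := by decide +kernel

theorem cov4_gens : deriv.gensOK numItems 4 cov4G = true := by decide +kernel

theorem cov4_roots : deriv.rootsOK numItems 4 cov4R cov4M.1 = true := by decide +kernel

end Cfsg.Agent.Lib.LyDC
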