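import Cfsg.Agent.Lib.LyDC.OrbitData

/-! Six points reach every point under the first stabiliser. -/

set_option maxRecDepth 100000

namespace Cfsg.Agent.Lib.LyDC

theorem covMove_run : orbRun (fstL cov1G) covMoveE covMoveM.1 covMoveM.2 = true := by decide +kernel

theorem covMove_full : fullMask covMoveM.2 = true := by decide +kernel

theorem covMove_start : covMoveM.1 = (1 <<< 0) ||| ((1 <<< 1) ||| ((1 <<< 5) ||| ((1 <<< 6) ||| ((1 <<< 8) ||| (1 <<< 21))))) := by decide +kernel

end Cfsg.Agent.Lib.LyDC
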