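import Cfsg.Agent.Lib.LyDC.OrbitData

/-! Generated: the generators of the chain of the first stabiliser as products of images of tokens. -/

set_option maxRecDepth 100000

namespace Cfsg.Agent.Lib.LyDC

/-- the generators as products of images of tokens -/
noncomputable def asImg (gl : List (List Nat)) (al : List (List Nat)) : Bool :=
  band (Nat.beq gl.length al.length) (rangeB (fun i => band (forallB (fun x => Nat.blt x 16) (nth [] al i))
    (eqW (nth [] gl i) (catW imgWords (nth [] al i)))) gl.length 0)

/-- level 0 -/
def lev1_0A : List (List Nat) := [[2,2,7], [10], [2,13,7,13,1,13], [2,6,10,15]]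

theorem lev1_0_img : asImg (fstL lev1_0G) lev1_0A = true := by decide +kernel

/-- level 1 -/
def lev1_1A : List (List Nat) := [[2,15,7,14], [15,2,1,14,3], [0,10,5,14,6,11,15], [10,13,7,13,11], [3,7,11,15,3,12]]

theorem lev1_1_img : asImg (fstL lev1_1G) lev1_1A = true := by decide +kernel

/-- level 2 -/
def lev1_2A : List (List Nat) := [[0], [0,13,11,4,15]]

theorem lev1_2_img : asImg (fstL lev1_2G) lev1_2A = true := by decide +kernel

/-- the generators used for the cover at the first stabiliser -/
def cov1A : List (List Nat) := [[2,2,7], [10], [2,13,7,13,1,13], [2,6,10,15]]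

theorem cov1_asImg : asImg (fstL cov1G) cov1A = true := by decide +kernel

end Cfsg.Agent.Lib.LyDC
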