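import Cfsg.Agent.Lib.LyDC.OrbitData

/-! Tokens fix the point 0; images of the tokens are products of tokens. -/

set_option maxRecDepth 100000

namespace Cfsg.Agent.Lib.LyDC

theorem tok_fix : fixOK tokWords [0] = true := by decide +kernel

theorem img_tok : rangeB (fun k => band (forallB (fun x => Nat.blt x 16) (nth [] imgTok k)) (eqW (nth [] imgWords k) (catW tokWords (nth [] imgTok k)))) 16 0 = true := by decide +kernel

theorem tok_inv : rangeB (fun k => band (eqW (nth [] tokWords k ++ nth [] tokWords (Nat.xor k 1)) []) (eqW (nth [] imgWords k ++ nth [] imgWords (Nat.xor k 1)) [])) 16 0 = true := by decide +kernel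

end Cfsg.Agent.Lib.LyDC
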