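import Cfsg.Agent.Lib.LyDC.DerivData

/-! The checks of the derivation. -/

set_option maxRecDepth 100000

namespace Cfsg.Agent.Lib.LyDC

theorem words_ok : deriv.wordsOK = true := by decide +kernel

theorem steps_ok : rangeB deriv.stepOK numItems 0 = true := by decide +kernel

end Cfsg.Agent.Lib.LyDC
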