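/-!
Kernel-friendly evaluation of words in eight letters on the 19530 points.

Letters: `0,1` = `a, a⁻¹`, `2,3` = `b, b⁻¹`, `4,5` = `c, c⁻¹`, `6,7` = `d, d⁻¹`.  A word is packed
in four bits for each letter (the letter plus one), the first letter in the lowest bits; a long
word is a list of such numbers.  A table of images is a binary tree of depth five whose 32 leaves
hold 611 entries of sixteen bits each.  The file has no imports, so that evaluation needs little
memory.
-/

namespace Cfsg.Agent.Lib.LyDC

/-- evaluate `n` before use -/
noncomputable def hold {α : Type} (n : Nat) (f : Nat → α) : α :=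
  Nat.rec (motive := fun _ => α) (f 0) (fun m _ => f (Nat.succ m)) n

/-- lazy conjunction -/
noncomputable def band (a b : Bool) : Bool := Bool.rec (motive := fun _ => Bool) false b a

/-- conjunction over a list -/
noncomputable def forallB {α : Type} (p : α → Bool) (l : List α) : Bool :=
  List.rec (motive := fun _ => Bool) true (fun x _ ih => band (p x) ih) l

/-- conjunction over `i, ..., i + m - 1` -/
noncomputable def rangeB (p : Nat → Bool) (m : Nat) : Nat → Bool :=
  Nat.rec (motive := fun _ => Nat → Bool) (fun _ => true)
    (fun _ ih i => hold i fun j => band (p j) (ih (Nat.succ j))) m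

/-- entry of a list, or the default value -/
noncomputable def nth {α : Type} (d : α) (l : List α) : Nat → α :=
  List.rec (motive := fun _ => Nat → α) (fun _ => d)
    (fun x _ ih i => Nat.rec (motive := fun _ => α) x (fun m _ => ih m) i) l

/-- entry of sixteen bits -/
noncomputable def at16 (b i : Nat) : Nat :=
  Nat.land (Nat.shiftRight b (Nat.mul i 16)) 65535

/-- binary tree of packed numbers -/
inductive Tree
  | leaf (n : Nat)
  | node (l r : Tree)

/-- leaf number `i`, low bit first -/
noncomputable def Tree.leafAt (t : Tree) : Nat → Nat :=
  Tree.rec (motive := fun _ => Nat → Nat) (fun n _ => n)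
    (fun _ _ fl fr i => Bool.rec (motive := fun _ => Nat) (fr (Nat.shiftRight i 1))
      (fl (Nat.shiftRight i 1)) (Nat.beq (Nat.land i 1) 0)) t

/-- entry number `p` of a table -/
noncomputable def Tree.get (t : Tree) (p : Nat) : Nat :=
  at16 (t.leafAt (Nat.div p 611)) (Nat.mod p 611)

/-- the tables of the eight letters -/
structure Tabs where
  t0 : Tree
  t1 : Tree
  t2 : Tree
  t3 : Tree
  t4 : Tree
  t5 : Tree
  t6 : Tree
  t7 : Tree

/-- the image of a point under a letter -/
noncomputable def Tabs.act (D : Tabs) (l : Nat) : Nat → Nat :=
  (nth D.t0 [D.t0, D.t1, D.t2, D.t3, D.t4, D.t5, D.t6, D.t7] l).get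

/-- follow one packed word of at most `fuel` letters -/
noncomputable def Tabs.goC (D : Tabs) (fuel : Nat) : Nat → Nat → Nat :=
  Nat.rec (motive := fun _ => Nat → Nat → Nat) (fun _ p => p)
    (fun _ ih w p => Nat.rec (motive := fun _ => Nat) p
      (fun _ _ => hold (D.act (Nat.land (Nat.sub (Nat.land w 15) 1) 7) p) fun q =>
        hold (Nat.shiftRight w 4) fun v => ih v q) w) fuel

/-- follow a word -/
noncomputable def Tabs.go (D : Tabs) (u : List Nat) : Nat → Nat :=
  List.rec (motive := fun _ => Nat → Nat) (fun p => p)
    (fun w _ ih p => hold (D.goC 64 w p) ih) u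

/-- equality test for lists of numbers -/
noncomputable def eqLN (a : List Nat) : List Nat → Bool :=
  List.rec (motive := fun _ => List Nat → Bool)
    (fun b => List.rec (motive := fun _ => Bool) true (fun _ _ _ => false) b)
    (fun x _ ih b =>
      List.rec (motive := fun _ => Bool) false (fun y ys _ => band (Nat.beq x y) (ih ys)) b) a

/-- move all points of a list along a word -/
noncomputable def Tabs.mov (D : Tabs) (u : List Nat) (s : List Nat) : List Nat :=
  List.rec (motive := fun _ => List Nat) [] (fun p _ ih => hold (D.go u p) fun q => q :: ih) s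

/-- the two words move the base alike -/
noncomputable def Tabs.same (D : Tabs) (base : List Nat) (u v : List Nat) : Bool :=
  eqLN (D.mov u base) (D.mov v base)

/-- membership of a number in a list -/
noncomputable def memN (x : Nat) (l : List Nat) : Bool :=
  List.rec (motive := fun _ => Bool) false
    (fun y _ ih => Bool.rec (motive := fun _ => Bool) ih true (Nat.beq x y)) l

/-- the letters of a packed word -/
noncomputable def decodeC (fuel : Nat) : Nat → List Nat :=
  Nat.rec (motive := fun _ => Nat → List Nat) (fun _ => [])
    (fun _ ih w => Nat.rec (motive := fun _ => List Nat) []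
      (fun _ _ => Nat.land (Nat.sub (Nat.land w 15) 1) 7 :: ih (Nat.shiftRight w 4)) w) fuel

/-- the letters of a word -/
noncomputable def decode (u : List Nat) : List Nat :=
  List.rec (motive := fun _ => List Nat) [] (fun w _ ih => decodeC 64 w ++ ih) u

/-- two tables are inverse bijections of `lo, ..., lo + len - 1` into `0, ..., 19529` -/
noncomputable def Tabs.invOK (D : Tabs) (l lo len : Nat) : Bool :=
  rangeB (fun p => hold (D.act l p) fun q =>
    band (Nat.blt q 19530) (Nat.beq (D.act (Nat.xor l 1) q) p)) len lo

end Cfsg.Agent.Lib.LyDC
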