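import Mathlib
import Cfsg.Agent.Lib.LyDC.Kernel

/-!
Soundness of the word evaluator, and the group of the eight letters on 19530 points.
-/

set_option autoImplicit false

namespace Cfsg.Agent.Lib.LyDC

theorem hold_eq {α : Type} (n : ℕ) (f : ℕ → α) : hold n f = f n := by
  cases n <;> rfl

theorem band_eq (a b : Bool) : band a b = (a && b) := by cases a <;> rfl

theorem forallB_iff {α : Type} {p : α → Bool} :
    ∀ {l : List α}, forallB p l = true ↔ ∀ x ∈ l, p x = true
  | [] => by simp [forallB]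
  | x :: l => by
    show band (p x) (forallB p l) = true ↔ _
    rw [band_eq, Bool.and_eq_true, forallB_iff]; simp

theorem rangeB_spec {p : ℕ → Bool} : ∀ {m i : ℕ}, rangeB p m i = true →
    ∀ k, i ≤ k → k < i + m → p k = true
  | 0, i, _ => fun k h1 h2 => by omega
  | m + 1, i, h => fun k h1 h2 => by
    have h' : hold i (fun j => band (p j) (rangeB p m (Nat.succ j))) = true := h
    rw [hold_eq, band_eq, Bool.and_eq_true] at h'
    rcases Nat.eq_or_lt_of_le h1 with rfl | h1
    · exact h'.1
    · exact rangeB_spec h'.2 k h1 (by omega)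

theorem beqN_iff {a b : ℕ} : Nat.beq a b = true ↔ a = b :=
  ⟨Nat.eq_of_beq_eq_true, fun h => h ▸ Nat.beq_refl a⟩

theorem bltN_iff {a b : ℕ} : Nat.blt a b = true ↔ a < b :=
  ⟨Nat.le_of_ble_eq_true, fun h => Nat.ble_eq_true_of_le h⟩

theorem bleN_iff {a b : ℕ} : Nat.ble a b = true ↔ a ≤ b :=
  ⟨Nat.le_of_ble_eq_true, fun h => Nat.ble_eq_true_of_le h⟩

theorem eqLN_iff : ∀ {a b : List ℕ}, eqLN a b = true ↔ a = b
  | [], [] => by simp [eqLN]
  | [], _ :: _ => by simp [eqLN]
  | _ :: _, [] => by simp [eqLN]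
  | x :: a, y :: b => by
    show band (Nat.beq x y) (eqLN a b) = true ↔ _
    rw [band_eq, Bool.and_eq_true, beqN_iff, eqLN_iff]; simp

theorem nth_eq {α : Type} (d : α) : ∀ (l : List α) (i : ℕ), nth d l i = l.getD i d
  | [], _ => by simp [nth]
  | x :: l, 0 => by simp [nth]
  | x :: l, i + 1 => by
    show nth d l i = _
    rw [nth_eq d l i]; simp

theorem memN_iff {x : ℕ} : ∀ {l : List ℕ}, memN x l = true ↔ x ∈ l
  | [] => by simp [memN]
  | y :: l => by
    show Bool.rec (motive := fun _ => Bool) (memN x l) true (Nat.beq x y) = true ↔ _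
    rcases h : Nat.beq x y with _ | _
    · have hne : x ≠ y := fun e => by rw [beqN_iff.2 e] at h; exact absurd h (by simp)
      show memN x l = true ↔ _
      rw [memN_iff]; simp [hne]
    · simp [beqN_iff.1 h]

theorem decode_cons (w : ℕ) (u : List ℕ) : decode (w :: u) = decodeC 64 w ++ decode u := rfl

theorem decode_append : ∀ u v : List ℕ, decode (u ++ v) = decode u ++ decode v
  | [], _ => rfl
  | w :: u, v => by
    rw [List.cons_append, decode_cons, decode_cons, decode_append, List.append_assoc]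

theorem lt_eight_of_mem : ∀ {fuel w l : ℕ}, l ∈ decodeC fuel w → l < 8
  | 0, _, _, h => by simp [decodeC] at h
  | fuel + 1, 0, _, h => by simp [decodeC] at h
  | fuel + 1, w + 1, l, h => by
    have h' : l ∈ Nat.land (Nat.sub (Nat.land (w + 1) 15) 1) 7 ::
        decodeC fuel (Nat.shiftRight (w + 1) 4) := h
    rcases List.mem_cons.1 h' with rfl | h'
    · exact Nat.lt_succ_of_le Nat.and_le_right
    · exact lt_eight_of_mem h'

theorem mem_decode_lt : ∀ {u : List ℕ} {l : ℕ}, l ∈ decode u → l < 8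
  | [], _, h => by simp [decode] at h
  | w :: u, _, h => by
    rw [decode_cons, List.mem_append] at h
    exact h.elim lt_eight_of_mem mem_decode_lt

/-- a group acting on the points from the right with eight elements acting as the letters -/
structure Rep (D : Tabs) (Q : Type*) [Group Q] where
  f : ℕ → Q
  pt : Q → ℕ → ℕ
  pt_one : ∀ p, pt 1 p = p
  pt_mul : ∀ a b p, pt (a * b) p = pt b (pt a p)
  pt_lt : ∀ g p, p < 19530 → pt g p < 19530
  pt_f : ∀ l p, l < 8 → p < 19530 → pt (f l) p = D.act l p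

namespace Rep

variable {D : Tabs} {Q : Type*} [Group Q] (R : Rep D Q)

/-- the element of a word -/
noncomputable def ev (u : List ℕ) : Q := ((decode u).map R.f).prod

theorem ev_nil : R.ev [] = 1 := rfl

theorem ev_append (u v : List ℕ) : R.ev (u ++ v) = R.ev u * R.ev v := by
  simp [ev, decode_append]

theorem pt_inv {g : Q} {p q : ℕ} (h : R.pt g p = q) : R.pt g⁻¹ q = p := by
  rw [← h, ← R.pt_mul, mul_inv_cancel, R.pt_one]

theorem goC_eq : ∀ (fuel w p : ℕ), p < 19530 →
    D.goC fuel w p = R.pt (((decodeC fuel w).map R.f).prod) p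
  | 0, _, p, _ => by simp [Tabs.goC, decodeC, R.pt_one]
  | fuel + 1, 0, p, _ => by simp [Tabs.goC, decodeC, R.pt_one]
  | fuel + 1, w + 1, p, hp => by
    show hold (D.act (Nat.land (Nat.sub (Nat.land (w + 1) 15) 1) 7) p) (fun q =>
        hold (Nat.shiftRight (w + 1) 4) fun v => D.goC fuel v q) =
      R.pt (((Nat.land (Nat.sub (Nat.land (w + 1) 15) 1) 7 ::
        decodeC fuel (Nat.shiftRight (w + 1) 4)).map R.f).prod) p
    have hl : Nat.land (Nat.sub (Nat.land (w + 1) 15) 1) 7 < 8 :=
      lt_eight_of_mem (fuel := fuel + 1) (w := w + 1) (List.mem_cons_self ..)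
    rw [hold_eq, hold_eq, List.map_cons, List.prod_cons, R.pt_mul, R.pt_f _ _ hl hp]
    refine goC_eq fuel _ _ ?_
    rw [← R.pt_f _ _ hl hp]
    exact R.pt_lt _ _ hp

theorem go_eq : ∀ (u : List ℕ) (p : ℕ), p < 19530 → D.go u p = R.pt (R.ev u) p
  | [], p, _ => (R.pt_one p).symm
  | w :: u, p, hp => by
    show hold (D.goC 64 w p) (D.go u) = _
    rw [hold_eq, R.goC_eq 64 w p hp, go_eq u _ (R.pt_lt _ _ hp)]
    simp only [ev, decode_cons, List.map_append, List.prod_append, R.pt_mul]

/-- the images of a list of points -/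
noncomputable def imgs (g : Q) (base : List ℕ) : List ℕ := base.map (R.pt g)

theorem imgs_mul (a b : Q) (base : List ℕ) :
    R.imgs (a * b) base = (R.imgs a base).map (R.pt b) := by
  simp [imgs, R.pt_mul, Function.comp_def]

theorem imgs_one (base : List ℕ) : R.imgs 1 base = base := by
  rw [imgs]
  conv_rhs => rw [← List.map_id base]
  exact List.map_congr_left fun p _ => R.pt_one p

theorem mov_eq : ∀ (u s : List ℕ), (∀ p ∈ s, p < 19530) → D.mov u s = s.map (R.pt (R.ev u))
  | _, [], _ => rfl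
  | u, p :: s, h => by
    show hold (D.go u p) (fun q => q :: D.mov u s) = _
    rw [hold_eq, R.go_eq u p (h p (by simp)), mov_eq u s fun q hq => h q (by simp [hq])]
    rfl

theorem mov_base {base : List ℕ} (hb : ∀ b ∈ base, b < 19530) (u : List ℕ) :
    D.mov u base = R.imgs (R.ev u) base := R.mov_eq u base hb

/-- only the identity fixes the base -/
def Inj (base : List ℕ) : Prop := ∀ g : Q, R.imgs g base = base → g = 1

theorem eq_of_imgs {base : List ℕ} (hI : R.Inj base) {a b : Q}
    (h : R.imgs a base = R.imgs b base) : a = b := by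
  have e : R.imgs (a * b⁻¹) base = base := by
    rw [R.imgs_mul, h, ← R.imgs_mul, mul_inv_cancel, R.imgs_one]
  exact mul_inv_eq_one.1 (hI _ e)

theorem eq_of_same {base u v : List ℕ} (hb : ∀ b ∈ base, b < 19530) (hI : R.Inj base)
    (h : D.same base u v = true) : R.ev u = R.ev v := by
  have h' := eqLN_iff.1 h
  rw [R.mov_base hb, R.mov_base hb] at h'
  exact R.eq_of_imgs hI h'

theorem same_iff {base u v : List ℕ} (hb : ∀ b ∈ base, b < 19530) (hI : R.Inj base) :
    D.same base u v = true ↔ R.ev u = R.ev v := by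
  refine ⟨R.eq_of_same hb hI, fun h => eqLN_iff.2 ?_⟩
  rw [R.mov_base hb, R.mov_base hb, h]

/-- the elements fixing a list of points -/
def fixList (ps : List ℕ) : Subgroup Q where
  carrier := {g | ∀ p ∈ ps, R.pt g p = p}
  one_mem' := fun p _ => R.pt_one p
  mul_mem' {a b} ha hb := fun p hp => by rw [R.pt_mul, ha p hp, hb p hp]
  inv_mem' {a} ha := fun p hp => R.pt_inv (ha p hp)

theorem imgs_eq_iff (g : Q) : ∀ ps : List ℕ, R.imgs g ps = ps ↔ g ∈ R.fixList ps
  | [] => ⟨fun _ p hp => absurd hp (List.not_mem_nil), fun _ => rfl⟩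
  | p :: ps => by
    show (R.pt g p :: R.imgs g ps = p :: ps) ↔ ∀ q ∈ p :: ps, R.pt g q = q
    rw [List.cons.injEq, imgs_eq_iff g ps]
    simp [fixList]

theorem fixList_eq_bot {base : List ℕ} (hI : R.Inj base) : R.fixList base = ⊥ :=
  (Subgroup.eq_bot_iff_forall _).2 fun g hg => hI g ((R.imgs_eq_iff g base).2 hg)

end Rep

end Cfsg.Agent.Lib.LyDC
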