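import Cfsg.Agent.Lib.LyDC.Tables

/-! Generated: the table of letter 6 is inverted by that of the inverse letter. -/

set_option maxRecDepth 100000

namespace Cfsg.Agent.Lib.LyDC

theorem invOK6 : rangeB (fun b => tabs.invOK 6 (Nat.mul b 1953) 1953) 10 0 = true := by
  decide +kernel

end Cfsg.Agent.Lib.LyDC
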