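import Mathlib
import Cfsg.Agent.Lib.LyDC.Sound
import Cfsg.Agent.Lib.LyDC.TabCheck0
import Cfsg.Agent.Lib.LyDC.TabCheck1
import Cfsg.Agent.Lib.LyDC.TabCheck2
import Cfsg.Agent.Lib.LyDC.TabCheck3
import Cfsg.Agent.Lib.LyDC.TabCheck4
import Cfsg.Agent.Lib.LyDC.TabCheck5
import Cfsg.Agent.Lib.LyDC.TabCheck6
import Cfsg.Agent.Lib.LyDC.TabCheck7

/-!
The eight letters as permutations of the 19530 points, and the group `Hbar` generated by them.
-/

set_option autoImplicit false

namespace Cfsg.Agent.Lib.LyDC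

theorem invOK_all : ∀ l < 8,
    rangeB (fun b => tabs.invOK l (Nat.mul b 1953) 1953) 10 0 = true := by
  intro l hl
  interval_cases l
  exacts [invOK0, invOK1, invOK2, invOK3, invOK4, invOK5, invOK6, invOK7]

theorem tabs_spec {l p : ℕ} (hl : l < 8) (hp : p < 19530) :
    tabs.act l p < 19530 ∧ tabs.act (l ^^^ 1) (tabs.act l p) = p := by
  have h := rangeB_spec (invOK_all l hl) (p / 1953) (Nat.zero_le _) (by omega)
  unfold Tabs.invOK at h
  have h' := rangeB_spec h p
    (by show p / 1953 * 1953 ≤ p; omega) (by show p < p / 1953 * 1953 + 1953; omega)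
  simp only [hold_eq, band_eq, Bool.and_eq_true, bltN_iff, beqN_iff] at h'
  exact h'

theorem invL_spec : ∀ l < 8, l ^^^ 1 < 8 ∧ (l ^^^ 1) ^^^ 1 = l := by decide

/-- one letter as a permutation of the points -/
noncomputable def letter (l : ℕ) : Equiv.Perm (Fin 19530) :=
  if hl : l < 8 then
    { toFun := fun p => ⟨tabs.act l p, (tabs_spec hl p.2).1⟩
      invFun := fun p => ⟨tabs.act (l ^^^ 1) p, (tabs_spec (invL_spec l hl).1 p.2).1⟩
      left_inv := fun p => Fin.ext (tabs_spec hl p.2).2
      right_inv := fun p => Fin.ext (by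
        have := (tabs_spec (invL_spec l hl).1 p.2).2
        rwa [(invL_spec l hl).2] at this) }
  else 1

theorem letter_apply {l : ℕ} (hl : l < 8) (p : Fin 19530) :
    (letter l p : ℕ) = tabs.act l p := by
  rw [letter, dif_pos hl]; rfl

/-- the permutations act on the points from the right -/
noncomputable def permRep : Rep tabs (Equiv.Perm (Fin 19530)) where
  f l := (letter l)⁻¹
  pt g p := if h : p < 19530 then ((g⁻¹ : Equiv.Perm (Fin 19530)) ⟨p, h⟩ : ℕ) else p
  pt_one p := by split <;> simp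
  pt_mul a b p := by
    by_cases hp : p < 19530
    · simp [hp]
    · simp [hp]
  pt_lt g p hp := by
    rw [dif_pos hp]
    exact Fin.isLt _
  pt_f l p hl hp := by
    rw [dif_pos hp, inv_inv, letter_apply hl]

theorem permRep_pt (g : Equiv.Perm (Fin 19530)) (p : Fin 19530) :
    permRep.pt g p = ((g⁻¹ : Equiv.Perm (Fin 19530)) p : ℕ) := dif_pos p.2

theorem perm_ext {a b : Equiv.Perm (Fin 19530)}
    (h : ∀ p < 19530, permRep.pt a p = permRep.pt b p) : a = b := by
  refine inv_inj.1 (Equiv.ext fun p => Fin.ext ?_)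
  rw [← permRep_pt, ← permRep_pt]
  exact h p p.2

theorem permRep_inv {l : ℕ} (hl : l < 8) : permRep.f (l ^^^ 1) = (permRep.f l)⁻¹ := by
  refine eq_inv_of_mul_eq_one_right (perm_ext fun p hp => ?_)
  rw [permRep.pt_mul, permRep.pt_f l p hl hp,
    permRep.pt_f _ _ (invL_spec l hl).1 (tabs_spec hl hp).1, permRep.pt_one]
  exact (tabs_spec hl hp).2

/-- the group generated by the permutations of `a`, `b`, `c`, `d` -/
noncomputable def Hbar : Subgroup (Equiv.Perm (Fin 19530)) :=
  Subgroup.closure {permRep.f 0, permRep.f 2, permRep.f 4, permRep.f 6}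

theorem permRep_f_mem : ∀ l : ℕ, permRep.f l ∈ Hbar := by
  intro l
  have h0 : permRep.f 0 ∈ Hbar := Subgroup.subset_closure (by simp)
  have h2 : permRep.f 2 ∈ Hbar := Subgroup.subset_closure (by simp)
  have h4 : permRep.f 4 ∈ Hbar := Subgroup.subset_closure (by simp)
  have h6 : permRep.f 6 ∈ Hbar := Subgroup.subset_closure (by simp)
  match l with
  | 0 => exact h0
  | 1 => exact (permRep_inv (l := 0) (by decide)) ▸ inv_mem h0
  | 2 => exact h2
  | 3 => exact (permRep_inv (l := 2) (by decide)) ▸ inv_mem h2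
  | 4 => exact h4
  | 5 => exact (permRep_inv (l := 4) (by decide)) ▸ inv_mem h4
  | 6 => exact h6
  | 7 => exact (permRep_inv (l := 6) (by decide)) ▸ inv_mem h6
  | l + 8 =>
    show (letter (l + 8))⁻¹ ∈ Hbar
    rw [letter, dif_neg (by omega)]; simp

/-- the letters inside `Hbar` -/
noncomputable def rep : Rep tabs Hbar where
  f l := ⟨permRep.f l, permRep_f_mem l⟩
  pt g p := permRep.pt g p
  pt_one p := permRep.pt_one p
  pt_mul a b p := permRep.pt_mul a b p
  pt_lt g p := permRep.pt_lt g p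
  pt_f l p := permRep.pt_f l p

theorem rep_inv {l : ℕ} (hl : l < 8) : rep.f (l ^^^ 1) = (rep.f l)⁻¹ :=
  Subtype.ext (permRep_inv hl)

theorem base_lt : ∀ b ∈ base, b < 19530 := by decide

/-- the elements of `Hbar` fix the base only if trivial -/
def BaseInj : Prop := rep.Inj base

end Cfsg.Agent.Lib.LyDC
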