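import Mathlib
import Cfsg.Agent.Lib.LyDC.Perm
import Cfsg.Agent.Lib.LyDC.CheckSteps

/-!
Soundness of the derivation: the items are equations between right cosets of the image of `Hbar`
in any group with an element `z` satisfying the relations 73-82 and 84 over that image.
-/

set_option autoImplicit false

namespace Cfsg.Agent.Lib.LyDC

variable {G : Type} [Group G]

/-- an image of `Hbar` and one more element `z` with the relations used by the derivation -/
structure Ctx (G : Type) [Group G] where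
  φ : Hbar →* G
  z : G
  inj : BaseInj
  tok : ∀ k < 16, φ (rep.ev (nth [] tokWords k)) * z = z * φ (rep.ev (nth [] imgWords k))
  uz : z * z = φ (rep.ev deriv.uW)
  rel : ∀ F ∈ deriv.forms, (F.segs.map fun w => φ (rep.ev w.1) * z).prod * φ (rep.ev F.tail) = 1

namespace Ctx

variable (C : Ctx G)

/-- the value of a word -/
noncomputable def hv (u : List ℕ) : G := C.φ (rep.ev u)

theorem hv_append (u v : List ℕ) : C.hv (u ++ v) = C.hv u * C.hv v := by
  simp [hv, rep.ev_append]

theorem hv_nil : C.hv [] = 1 := by simp [hv, rep.ev_nil]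

theorem hv_eq {u v : List ℕ} (h : eqW u v = true) : C.hv u = C.hv v := by
  rw [hv, hv, rep.eq_of_same base_lt C.inj h]

theorem hv_inv {u v : List ℕ} (h : eqW (u ++ v) [] = true) : C.hv v = (C.hv u)⁻¹ := by
  refine eq_inv_of_mul_eq_one_right ?_
  rw [← C.hv_append, C.hv_eq h, C.hv_nil]

/-- the same right coset -/
def Eqv (a b : G) : Prop := a * b⁻¹ ∈ C.φ.range

variable {C}

theorem Eqv.refl (a : G) : C.Eqv a a := by simp [Eqv, one_mem]

theorem Eqv.symm {a b : G} (h : C.Eqv a b) : C.Eqv b a := by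
  have := inv_mem h
  simpa [Eqv] using this

theorem Eqv.trans {a b c : G} (h : C.Eqv a b) (h' : C.Eqv b c) : C.Eqv a c := by
  have := mul_mem h h'
  simpa [Eqv, mul_assoc] using this

theorem Eqv.mul_right {a b : G} (h : C.Eqv a b) (c : G) : C.Eqv (a * c) (b * c) := by
  simpa [Eqv, mul_assoc] using h

variable (C)

theorem cat_z : ∀ a : List ℕ, (∀ x ∈ a, x < 16) →
    C.hv (catW deriv.tokW a) * C.z = C.z * C.hv (catW deriv.imgW a)
  | [], _ => by
    show C.hv [] * C.z = C.z * C.hv []
    rw [C.hv_nil, one_mul, mul_one]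
  | x :: a, h => by
    show C.hv (nth [] tokWords x ++ catW deriv.tokW a) * C.z =
      C.z * C.hv (nth [] imgWords x ++ catW deriv.imgW a)
    rw [C.hv_append, C.hv_append, mul_assoc, cat_z a fun y hy => h y (List.mem_cons_of_mem _ hy),
      ← mul_assoc, show C.hv (nth [] tokWords x) * C.z = C.z * C.hv (nth [] imgWords x) from
        C.tok x (h x (List.mem_cons_self ..)), mul_assoc]

theorem hv_uI : C.hv deriv.uI = (C.z * C.z)⁻¹ := by
  have h : band (eqW (deriv.uW ++ deriv.uI) []) (forallB _ deriv.forms) = true := words_ok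
  rw [band_eq, Bool.and_eq_true] at h
  rw [C.uz]
  exact C.hv_inv h.1

theorem form_inv {F : Form} (hF : F ∈ deriv.forms) :
    C.hv F.tailI = (C.hv F.tail)⁻¹ ∧ ∀ w ∈ F.segs, C.hv w.2 = (C.hv w.1)⁻¹ := by
  have h : band (eqW (deriv.uW ++ deriv.uI) []) (forallB _ deriv.forms) = true := words_ok
  rw [band_eq, Bool.and_eq_true] at h
  have h' := forallB_iff.1 h.2 F hF
  rw [band_eq, Bool.and_eq_true] at h'
  exact ⟨C.hv_inv h'.1, fun w hw => C.hv_inv (forallB_iff.1 h'.2 w hw)⟩

/-- the coset representatives -/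
noncomputable def W (C : Ctx G) : ℕ → G
  | 0 => 1
  | j + 1 => if h : (nth (0, []) deriv.par j).1 < j + 1 then
      W C (nth (0, []) deriv.par j).1 * C.hv (nth (0, []) deriv.par j).2 * C.z
    else 1
decreasing_by exact h

theorem W_one : C.W 1 = C.z := by
  have hp : nth (0, []) deriv.par 0 = (0, []) := rfl
  rw [W, dif_pos (by rw [hp]; exact Nat.one_pos)]
  simp [hp, W, hv_nil]

theorem split_prod {P A R T : G} (h : P * (A * R) * T = 1) : P * A = T⁻¹ * R⁻¹ :=
  calc P * A = P * (A * R) * T * (T⁻¹ * R⁻¹) := by group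
    _ = T⁻¹ * R⁻¹ := by rw [h, one_mul]

/-- the meaning of an item -/
def Holds (it : Item) : Prop :=
  Bool.rec (motive := fun _ => Prop)
    (C.Eqv (C.W it.i * C.hv it.h * C.z) (C.W it.j * C.hv it.g))
    (C.Eqv (C.W it.i * C.hv it.h) (C.W it.i) ∧ C.hv it.hi = (C.hv it.h)⁻¹) it.st

theorem holds_stab {it : Item} (h : it.st = true) :
    C.Holds it ↔ C.Eqv (C.W it.i * C.hv it.h) (C.W it.i) ∧ C.hv it.hi = (C.hv it.h)⁻¹ := by
  unfold Holds; rw [h]

theorem holds_edge {it : Item} (h : it.st = false) :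
    C.Holds it ↔ C.Eqv (C.W it.i * C.hv it.h * C.z) (C.W it.j * C.hv it.g) := by
  unfold Holds; rw [h]

variable {q : ℕ}

theorem stabW_eqv {i : ℕ} (hq : ∀ k < q, C.Holds (deriv.item k)) :
    ∀ s : List (ℕ × Bool), deriv.stabsOK q i s = true →
      C.Eqv (C.W i * C.hv (deriv.stabW s)) (C.W i)
  | [], _ => by
    show C.Eqv (C.W i * C.hv []) _
    rw [C.hv_nil, mul_one]; exact Eqv.refl _
  | e :: s, h => by
    have h' : band (band (Nat.blt e.1 q) (band (deriv.item e.1).st
        (Nat.beq (deriv.item e.1).i i))) (deriv.stabsOK q i s) = true := h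
    simp only [band_eq, Bool.and_eq_true, beqN_iff, bltN_iff] at h'
    obtain ⟨⟨hk, hst, hi⟩, hs⟩ := h'
    have hh := (C.holds_stab hst).1 (hq _ hk)
    rw [hi] at hh
    obtain ⟨he, hinv⟩ := hh
    have ih := stabW_eqv hq s hs
    obtain ⟨k, b⟩ := e
    cases b
    · show C.Eqv (C.W i * C.hv ((deriv.item k).h ++ deriv.stabW s)) _
      rw [C.hv_append, ← mul_assoc]
      exact (he.mul_right _).trans ih
    · show C.Eqv (C.W i * C.hv ((deriv.item k).hi ++ deriv.stabW s)) _
      rw [C.hv_append, hinv, ← mul_assoc]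
      have h2 := (he.mul_right (C.hv (deriv.item k).h)⁻¹).symm
      rw [mul_inv_cancel_right] at h2
      exact (h2.mul_right _).trans ih

theorem bnot_iff {a : Bool} : bnot a = true ↔ a = false := by cases a <;> simp [bnot]

theorem useK_sound {i : ℕ} {h : List ℕ} {u : Use} {k : ℕ → List ℕ → Bool}
    (hq : ∀ k < q, C.Holds (deriv.item k)) (hu : deriv.useK q u i h k = true) :
    ∃ j g, k j g = true ∧ C.Eqv (C.W i * C.hv h * C.z) (C.W j * C.hv g) := by
  have h' : band (Nat.blt u.k q) (band (bnot (deriv.item u.k).st)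
      (band (Nat.beq (deriv.item u.k).i i) (band (forallB (fun x => Nat.blt x 16) u.a)
        (band (deriv.stabsOK q i u.s)
          (band (eqW h (deriv.stabW u.s ++ ((deriv.item u.k).h ++ catW deriv.tokW u.a)))
            (k (deriv.item u.k).j ((deriv.item u.k).g ++ catW deriv.imgW u.a))))))) = true := hu
  simp only [band_eq, Bool.and_eq_true, beqN_iff, bltN_iff, forallB_iff, bnot_iff] at h'
  obtain ⟨hk, hst, hi, ha, hs, he, hk'⟩ := h'
  refine ⟨_, _, hk', ?_⟩
  have hh := (C.holds_edge hst).1 (hq _ hk)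
  rw [hi] at hh
  rw [C.hv_eq he, C.hv_append, C.hv_append, C.hv_append]
  have hz := C.cat_z u.a ha
  generalize C.hv (catW deriv.tokW u.a) = x, C.hv (catW deriv.imgW u.a) = y at hz ⊢
  have h1 := ((C.stabW_eqv hq u.s hs).mul_right (C.hv (deriv.item u.k).h * x * C.z)).trans (b := _)
    (c := C.W (deriv.item u.k).j * (C.hv (deriv.item u.k).g * y))
    (by
      have e : C.W i * (C.hv (deriv.item u.k).h * x * C.z) =
          C.W i * C.hv (deriv.item u.k).h * C.z * y := by simp [mul_assoc, hz]
      rw [e, ← mul_assoc (C.W _)]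
      exact hh.mul_right y)
  simpa [mul_assoc] using h1

theorem fwdK_sound (hq : ∀ k < q, C.Holds (deriv.item k)) :
    ∀ (us : List Use) (segs : List (List ℕ × List ℕ)) (i : ℕ) (h : List ℕ)
      (k : List (List ℕ × List ℕ) → ℕ → List ℕ → Bool), deriv.fwdK q us segs i h k = true →
      ∃ pre rest i' h', k rest i' h' = true ∧ segs = pre ++ rest ∧
        C.Eqv (C.W i * C.hv h * (pre.map fun w => C.hv w.1 * C.z).prod) (C.W i' * C.hv h')
  | [], segs, i, h, k, hk => ⟨[], segs, i, h, hk, rfl, by simp [Eqv.refl]⟩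
  | u :: us, [], i, h, k, hk => absurd (show false = true from hk) (by simp)
  | u :: us, w :: segs, i, h, k, hk => by
    obtain ⟨j, g, hjg, e⟩ := C.useK_sound hq (h := h ++ w.1)
      (k := fun j g => deriv.fwdK q us segs j g k) hk
    obtain ⟨pre, rest, i', h', hk', hs, e'⟩ := fwdK_sound hq us segs j g k hjg
    refine ⟨w :: pre, rest, i', h', hk', by rw [hs]; rfl, ?_⟩
    have := (e.mul_right _).trans e'
    rw [List.map_cons, List.prod_cons]
    simpa [C.hv_append, mul_assoc] using this

theorem bwdK_sound (hq : ∀ k < q, C.Holds (deriv.item k)) :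
    ∀ (vs : List Use) (segs : List (List ℕ × List ℕ)) (i : ℕ) (h : List ℕ)
      (k : ℕ → List ℕ → Bool), (∀ w ∈ segs, C.hv w.2 = (C.hv w.1)⁻¹) →
      deriv.bwdK q vs segs i h k = true →
      ∃ j g, k j g = true ∧
        C.Eqv (C.W i * C.hv h)
          (C.W j * C.hv g * (segs.reverse.map fun w => C.hv w.1 * C.z).prod)
  | [], [], i, h, k, _, hk => ⟨i, h, hk, by simp [Eqv.refl]⟩
  | [], _ :: _, i, h, k, _, hk => absurd (show false = true from hk) (by simp)
  | u :: vs, [], i, h, k, _, hk => absurd (show false = true from hk) (by simp)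
  | u :: vs, w :: segs, i, h, k, hw, hk => by
    obtain ⟨j, g, hjg, e⟩ := C.useK_sound hq (h := h ++ deriv.uI)
      (k := fun j g => deriv.bwdK q vs segs j (g ++ w.2) k) hk
    obtain ⟨j', g', hk', e'⟩ := bwdK_sound hq vs segs j _ k
      (fun x hx => hw x (List.mem_cons_of_mem _ hx)) hjg
    refine ⟨j', g', hk', ?_⟩
    rw [C.hv_append, C.hv_uI] at e
    rw [C.hv_append, hw w (List.mem_cons_self ..)] at e'
    have h1 := (e.mul_right C.z)
    have h2 := e'.mul_right (C.hv w.1 * C.z)
    have h3 := h1.trans (b := _) (c := C.W j' * C.hv g' *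
      (segs.reverse.map fun w => C.hv w.1 * C.z).prod * (C.hv w.1 * C.z))
      (by simpa [mul_assoc] using h2)
    simpa [mul_assoc] using h3

theorem revL_eq {α : Type} : ∀ l : List α, revL l = l.reverse
  | [] => rfl
  | x :: l => by
    show revL l ++ [x] = _
    rw [revL_eq l, List.reverse_cons]

theorem nth_form_mem {f : ℕ} (hf : f < deriv.forms.length) :
    nth noForm deriv.forms f ∈ deriv.forms := by
  rw [nth_eq, List.getD_eq_getElem _ _ hf]; exact List.getElem_mem hf

theorem stab_spec {it : Item} (h : isStab it = true) :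
    it.st = true ∧ C.hv it.hi = (C.hv it.h)⁻¹ := by
  have h' : band it.st (eqW (it.h ++ it.hi) []) = true := h
  rw [band_eq, Bool.and_eq_true] at h'
  exact ⟨h'.1, C.hv_inv h'.2⟩

theorem step_sound (hq : ∀ k < q, C.Holds (deriv.item k)) (it : Item) (J : Just)
    (hs : deriv.justOK q it J = true) : C.Holds it := by
  cases J with
  | gen =>
    simp only [Deriv.justOK, band_eq, Bool.and_eq_true, beqN_iff] at hs
    obtain ⟨hst, hi⟩ := C.stab_spec hs.1
    refine (C.holds_stab hst).2 ⟨?_, hi⟩
    rw [hs.2]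
    show _ * (C.W 0)⁻¹ ∈ C.φ.range
    simp [W, hv]
  | tok k =>
    simp only [Deriv.justOK, band_eq, Bool.and_eq_true, beqN_iff, bltN_iff] at hs
    obtain ⟨h1, h2, hk, h3⟩ := hs
    obtain ⟨hst, hi⟩ := C.stab_spec h1
    refine (C.holds_stab hst).2 ⟨?_, hi⟩
    rw [h2, C.W_one, C.hv_eq h3, show C.hv (nth [] deriv.imgW k) =
      C.φ (rep.ev (nth [] imgWords k)) from rfl, ← C.tok k hk]
    show _ * C.z⁻¹ ∈ C.φ.range
    simp
  | orb =>
    simp only [Deriv.justOK, band_eq, Bool.and_eq_true, beqN_iff, bltN_iff, bleN_iff, eqLN_iff,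
      bnot_iff] at hs
    obtain ⟨hst, h1, hg, hp, hi, hh⟩ := hs
    refine (C.holds_edge hst).2 ?_
    obtain ⟨j', hj'⟩ := Nat.exists_eq_succ_of_ne_zero (Nat.pos_iff_ne_zero.1 h1)
    rw [hj'] at hp hi hh
    simp only [Nat.succ_eq_add_one, Nat.sub_eq, Nat.add_sub_cancel] at hp hi hh
    rw [hj', hg, hi, hh, C.hv_nil, mul_one]
    conv => arg 3; rw [W, dif_pos hp]
    exact Eqv.refl _
  | rev k =>
    simp only [Deriv.justOK, band_eq, Bool.and_eq_true, beqN_iff, bltN_iff, bnot_iff] at hs
    obtain ⟨hst, hk, ho, hi, hh, hj, hg⟩ := hs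
    refine (C.holds_edge hst).2 ?_
    rw [hi, hj, C.hv_eq hh, C.hv_eq hg, C.hv_append,
      show C.hv deriv.uW = C.z * C.z from C.uz.symm]
    have e := ((C.holds_edge ho).1 (hq k hk)).symm.mul_right C.z
    simpa [mul_assoc] using e
  | ded f i h us vs =>
    simp only [Deriv.justOK, band_eq, Bool.and_eq_true, bltN_iff, bnot_iff] at hs
    obtain ⟨hst, hf, hF⟩ := hs
    have hmem := nth_form_mem hf
    generalize nth noForm deriv.forms f = F at hF hmem
    obtain ⟨hti, hwi⟩ := C.form_inv hmem
    obtain ⟨pre, rest, i', h', hk, hsegs, e⟩ := C.fwdK_sound hq us F.segs i h _ hF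
    cases rest with
    | nil => exact absurd (show false = true from hk) (by simp)
    | cons w rest =>
      simp only [band_eq, Bool.and_eq_true, beqN_iff] at hk
      obtain ⟨hi, hh, hb⟩ := hk
      obtain ⟨j, g, hjg, e'⟩ := C.bwdK_sound hq vs (revL rest) i (h ++ F.tailI) _
        (fun x hx => hwi x (by rw [hsegs]; rw [revL_eq, List.mem_reverse] at hx; simp [hx])) hb
      simp only [band_eq, Bool.and_eq_true, beqN_iff] at hjg
      rw [revL_eq, List.reverse_reverse, C.hv_append, hti] at e'
      refine (C.holds_edge hst).2 ?_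
      rw [hi, hjg.1, C.hv_eq hh, C.hv_eq hjg.2, C.hv_append]
      have hr := C.rel F hmem
      rw [hsegs, List.map_append, List.prod_append, List.map_cons, List.prod_cons] at hr
      have hr' : (pre.map fun w => C.hv w.1 * C.z).prod * (C.hv w.1 * C.z) =
          (C.hv F.tail)⁻¹ * ((rest.map fun w => C.hv w.1 * C.z).prod)⁻¹ := by
        exact split_prod hr
      have e1 := (e.symm.mul_right (C.hv w.1 * C.z))
      have e2 := e'.mul_right ((rest.map fun w => C.hv w.1 * C.z).prod)⁻¹
      rw [mul_inv_cancel_right] at e2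
      have e3 := e1.trans (b := _) (c := C.W j * C.hv g) (by
        rw [mul_assoc (C.W i * C.hv h), hr']
        simpa [mul_assoc] using e2)
      simpa [mul_assoc] using e3
  | loop f i h us =>
    simp only [Deriv.justOK, band_eq, Bool.and_eq_true, bltN_iff] at hs
    obtain ⟨h1, hf, hF⟩ := hs
    obtain ⟨hst, hinv⟩ := C.stab_spec h1
    have hmem := nth_form_mem hf
    generalize nth noForm deriv.forms f = F at hF hmem
    obtain ⟨pre, rest, i', h', hk, hsegs, e⟩ := C.fwdK_sound hq us F.segs i h _ hF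
    cases rest with
    | cons w rest => exact absurd (show false = true from hk) (by simp)
    | nil =>
      simp only [band_eq, Bool.and_eq_true, beqN_iff] at hk
      obtain ⟨hi, hi', hh⟩ := hk
      refine (C.holds_stab hst).2 ⟨?_, hinv⟩
      rw [List.append_nil] at hsegs
      subst hsegs
      have hr : (F.segs.map fun w => C.hv w.1 * C.z).prod = (C.hv F.tail)⁻¹ :=
        eq_inv_of_mul_eq_one_left (C.rel F hmem)
      rw [hr, hi'] at e
      have he := C.hv_eq hh
      rw [C.hv_append, C.hv_append] at he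
      rw [hi]
      have e1 := e.mul_right ((C.hv h')⁻¹)
      rw [mul_inv_cancel_right] at e1
      have : C.hv it.h = C.hv h * (C.hv F.tail)⁻¹ * (C.hv h')⁻¹ := by
        rw [← he]; simp [mul_assoc]
      rw [this]
      simpa [mul_assoc] using e1
  | clash i h u v =>
    simp only [Deriv.justOK, band_eq, Bool.and_eq_true] at hs
    obtain ⟨hst, hinv⟩ := C.stab_spec hs.1
    obtain ⟨j, g, hv', e1⟩ := C.useK_sound hq hs.2
    obtain ⟨j', g', hk, e2⟩ := C.useK_sound hq hv'
    simp only [band_eq, Bool.and_eq_true, beqN_iff] at hk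
    refine (C.holds_stab hst).2 ⟨?_, hinv⟩
    have e := e1.symm.trans e2
    rw [← C.hv_eq hk.2.2, hk.2.1, C.hv_append] at e
    rw [hk.1]
    have := e.mul_right (C.hv g')⁻¹
    simpa [mul_assoc] using this

/-- every item of the derivation holds -/
theorem holds_all : ∀ q < numItems, C.Holds (deriv.item q) := by
  intro q
  induction q using Nat.strongRecOn with
  | _ q IH =>
    intro hqN
    exact C.step_sound (fun k hk => IH k hk (hk.trans hqN)) _ _
      (rangeB_spec steps_ok q (Nat.zero_le _) (by omega))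

theorem stabs_hold {i : ℕ} {s : List (ℕ × Bool)} (h : deriv.stabsOK numItems i s = true) :
    C.Eqv (C.W i * C.hv (deriv.stabW s)) (C.W i) :=
  C.stabW_eqv C.holds_all s h

end Ctx

end Cfsg.Agent.Lib.LyDC
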