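import Cfsg.Agent.Lib.LyDC.Tables

/-!
A checker for derivations of coset equations: an edge item says `H w_i h z = H w_j g`, a
stabiliser item says `H w_i h = H w_i`; `h` and `g` are words in the eight letters.  Each item is
justified by earlier items and the relators.  A second checker follows orbits of points under
stabilisers found in the derivation.
-/

namespace Cfsg.Agent.Lib.LyDC

/-- the two words are equal on the base -/
noncomputable def eqW (u v : List Nat) : Bool := tabs.same base u v

/-- an item; `hi` is the inverse of `h` for stabiliser items -/
structure Item where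
  st : Bool
  i : Nat
  h : List Nat
  j : Nat
  g : List Nat
  hi : List Nat

/-- the use of an edge item: its number, stabilisers `(number, inverted)`, tokens -/
structure Use where
  k : Nat
  s : List (Nat × Bool)
  a : List Nat

/-- a relator: segments (each followed by `z`) with inverses, and the last word -/
structure Form where
  segs : List (List Nat × List Nat)
  tail : List Nat
  tailI : List Nat

/-- the reason for an item -/
inductive Just
  | gen
  | tok (k : Nat)
  | orb
  | rev (k : Nat)
  | ded (f i : Nat) (h : List Nat) (us vs : List Use)
  | loop (f i : Nat) (h : List Nat) (us : List Use)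
  | clash (i : Nat) (h : List Nat) (u v : Use)

/-- data of a derivation -/
structure Deriv where
  tokW : List (List Nat)
  imgW : List (List Nat)
  forms : List Form
  uW : List Nat
  uI : List Nat
  /-- for the coset `j + 1`: its predecessor and the word before `z` -/
  par : List (Nat × List Nat)
  items : List (List Item)
  justs : List (List Just)

/-- the default item -/
def noItem : Item := ⟨true, 0, [], 0, [], []⟩

/-- the default form -/
def noForm : Form := ⟨[], [], []⟩

/-- negation -/
noncomputable def bnot (a : Bool) : Bool := Bool.rec (motive := fun _ => Bool) true false a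

variable (D : Deriv)

/-- item number `q` -/
noncomputable def Deriv.item (q : Nat) : Item :=
  nth noItem (nth [] D.items (Nat.div q 32)) (Nat.mod q 32)

/-- reason number `q` -/
noncomputable def Deriv.just (q : Nat) : Just :=
  nth Just.gen (nth [] D.justs (Nat.div q 32)) (Nat.mod q 32)

/-- concatenation of listed words -/
noncomputable def catW (T : List (List Nat)) (a : List Nat) : List Nat :=
  List.rec (motive := fun _ => List Nat) [] (fun x _ ih => nth [] T x ++ ih) a

/-- all stabilisers are earlier stabiliser items of the coset `i` -/
noncomputable def Deriv.stabsOK (q i : Nat) (s : List (Nat × Bool)) : Bool :=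
  forallB (fun e => band (Nat.blt e.1 q)
    ((fun it => band it.st (Nat.beq it.i i)) (D.item e.1))) s

/-- the product of stabilisers as a word -/
noncomputable def Deriv.stabW (s : List (Nat × Bool)) : List Nat :=
  List.rec (motive := fun _ => List Nat) []
    (fun e _ ih => Bool.rec (motive := fun _ => List Nat) (D.item e.1).h (D.item e.1).hi e.2 ++ ih)
    s

/-- move from `(i, h)` along `z` by the edge `u` -/
noncomputable def Deriv.useK (q : Nat) (u : Use) (i : Nat) (h : List Nat)
    (k : Nat → List Nat → Bool) : Bool :=
  band (Nat.blt u.k q) ((fun it => band (bnot it.st) (band (Nat.beq it.i i)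
    (band (forallB (fun x => Nat.blt x 16) u.a) (band (D.stabsOK q i u.s)
      (band (eqW h (D.stabW u.s ++ (it.h ++ catW D.tokW u.a)))
        (k it.j (it.g ++ catW D.imgW u.a))))))) (D.item u.k))

/-- follow the segments of a relator once for each use -/
noncomputable def Deriv.fwdK (q : Nat) (us : List Use) :
    List (List Nat × List Nat) → Nat → List Nat →
      (List (List Nat × List Nat) → Nat → List Nat → Bool) → Bool :=
  List.rec (motive := fun _ => List (List Nat × List Nat) → Nat → List Nat →
      (List (List Nat × List Nat) → Nat → List Nat → Bool) → Bool)
    (fun segs i h k => k segs i h)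
    (fun u _ ih segs i h k => List.rec (motive := fun _ => Bool) false
      (fun w rest _ => D.useK q u i (h ++ w.1) fun j g => ih rest j g k) segs) us

/-- follow segments backwards, the last one first -/
noncomputable def Deriv.bwdK (q : Nat) (vs : List Use) :
    List (List Nat × List Nat) → Nat → List Nat → (Nat → List Nat → Bool) → Bool :=
  List.rec (motive := fun _ => List (List Nat × List Nat) → Nat → List Nat →
      (Nat → List Nat → Bool) → Bool)
    (fun segs i h k => List.rec (motive := fun _ => Bool) (k i h) (fun _ _ _ => false) segs)
    (fun u _ ih segs i h k => List.rec (motive := fun _ => Bool) false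
      (fun w rest _ => D.useK q u i (h ++ D.uI) fun j g => ih rest j (g ++ w.2) k) segs) vs

/-- a reversed list -/
noncomputable def revL {α : Type} (l : List α) : List α :=
  List.rec (motive := fun _ => List α) [] (fun x _ ih => ih ++ [x]) l

/-- a stabiliser item whose inverse is right -/
noncomputable def isStab (it : Item) : Bool :=
  band it.st (eqW (it.h ++ it.hi) [])

/-- the item `it` follows from earlier ones for the reason `J` -/
noncomputable def Deriv.justOK (q : Nat) (it : Item) (J : Just) : Bool :=
  Just.rec (motive := fun _ => Bool)
    (band (isStab it) (Nat.beq it.i 0))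
    (fun k => band (isStab it) (band (Nat.beq it.i 1)
      (band (Nat.blt k 16) (eqW it.h (nth [] D.imgW k)))))
    (band (bnot it.st) (band (Nat.ble 1 it.j) (band (eqLN it.g [])
      ((fun p : Nat × List Nat => band (Nat.blt p.1 it.j)
        (band (Nat.beq it.i p.1) (eqLN it.h p.2))) (nth (0, []) D.par (Nat.sub it.j 1))))))
    (fun k => band (bnot it.st) (band (Nat.blt k q) ((fun o => band (bnot o.st)
      (band (Nat.beq it.i o.j) (band (eqW it.h o.g)
        (band (Nat.beq it.j o.i) (eqW it.g (o.h ++ D.uW)))))) (D.item k))))
    (fun f i h us vs => band (bnot it.st) (band (Nat.blt f D.forms.length)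
      ((fun F => D.fwdK q us F.segs i h fun rest i' h' =>
        List.rec (motive := fun _ => Bool) false (fun w rest' _ =>
          band (Nat.beq it.i i') (band (eqW it.h (h' ++ w.1))
            (D.bwdK q vs (revL rest') i (h ++ F.tailI) fun j g =>
              band (Nat.beq it.j j) (eqW it.g g)))) rest) (nth noForm D.forms f))))
    (fun f i h us => band (isStab it) (band (Nat.blt f D.forms.length)
      ((fun F => D.fwdK q us F.segs i h fun rest i' h' =>
        List.rec (motive := fun _ => Bool)
          (band (Nat.beq it.i i) (band (Nat.beq i' i) (eqW (it.h ++ (h' ++ F.tail)) h)))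
          (fun _ _ _ => false) rest) (nth noForm D.forms f))))
    (fun i h u v => band (isStab it) (D.useK q u i h fun j g => D.useK q v i h fun j' g' =>
      band (Nat.beq it.i j) (band (Nat.beq j' j) (eqW (it.h ++ g') g))))
    J

/-- the item `q` follows from earlier ones -/
noncomputable def Deriv.stepOK (q : Nat) : Bool := D.justOK q (D.item q) (D.just q)

/-- the auxiliary words are right: inverses and the two words for `u` -/
noncomputable def Deriv.wordsOK : Bool :=
  band (eqW (D.uW ++ D.uI) [])
    (forallB (fun F => band (eqW (F.tail ++ F.tailI) [])
      (forallB (fun w => eqW (w.1 ++ w.2) []) F.segs)) D.forms)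

/-- the bit of a point -/
noncomputable def hasBit (m p : Nat) : Bool :=
  Nat.beq (Nat.land (Nat.shiftRight m p) 1) 1

/-- follow one packed chunk of orbit entries: the point, the predecessor, the generator plus one;
48 bits for each entry.  `k` receives the mask of the points reached. -/
noncomputable def orbC (gens : List (List Nat)) (fuel : Nat) :
    Nat → Nat → (Nat → Bool) → Bool :=
  Nat.rec (motive := fun _ => Nat → Nat → (Nat → Bool) → Bool)
    (fun v m k => band (Nat.beq v 0) (k m))
    (fun _ ih v m k => Nat.rec (motive := fun _ => Bool) (k m)
      (fun _ _ => hold (Nat.land v 65535) fun y =>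
        hold (Nat.land (Nat.shiftRight v 16) 65535) fun x =>
          band (band (Nat.blt y 19530) (Nat.blt x 19530)) (band (hasBit m x) (band (bnot (hasBit m y))
            (band (Nat.blt (Nat.sub (Nat.land (Nat.shiftRight v 32) 65535) 1) gens.length)
              (band (Nat.beq
                  (tabs.go (nth [] gens (Nat.sub (Nat.land (Nat.shiftRight v 32) 65535) 1)) x) y)
                (hold (Nat.lor m (Nat.shiftLeft 1 y)) fun m' =>
                  hold (Nat.shiftRight v 48) fun v' => ih v' m' k)))))) v) fuel

/-- follow chunks of orbit entries, to a given mask -/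
noncomputable def orbRun (gens : List (List Nat)) (cs : List Nat) (m₀ m₁ : Nat) : Bool :=
  List.rec (motive := fun _ => Nat → Bool) (fun m => Nat.beq m m₁)
    (fun c _ ih m => orbC gens 512 c m ih) cs m₀

end Cfsg.Agent.Lib.LyDC

namespace Cfsg.Agent.Lib.LyDC

/-- the first components of a list of pairs -/
noncomputable def fstL {α β : Type} (l : List (α × β)) : List α :=
  List.rec (motive := fun _ => List α) [] (fun x _ ih => x.1 :: ih) l

/-- number of points of a mask -/
noncomputable def countBits (m : Nat) : Nat :=
  Nat.rec (motive := fun _ => Nat) 0
    (fun p ih => Bool.rec (motive := fun _ => Nat) ih (Nat.succ ih) (hasBit m p)) 19530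

/-- all points are in the mask -/
noncomputable def fullMask (m : Nat) : Bool := rangeB (hasBit m) 19530 0

/-- the generators come with earlier stabiliser items of the coset `j` that give them -/
noncomputable def Deriv.gensOK (D : Deriv) (q j : Nat) (gl : List (List Nat × List (Nat × Bool))) :
    Bool :=
  forallB (fun e => band (D.stabsOK q j e.2) (eqW e.1 (D.stabW e.2))) gl

/-- the roots are edge items at the coset `j`, whose word sends the point to `0`; the mask starts
with them -/
noncomputable def Deriv.rootsOK (D : Deriv) (q j : Nat) (rl : List (Nat × Nat)) (m₀ : Nat) : Bool :=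
  band (forallB (fun e => band (Nat.blt e.1 q) ((fun it => band (bnot it.st)
      (band (Nat.beq it.i j) (band (Nat.blt e.2 19530) (Nat.beq (tabs.go it.h e.2) 0))))
        (D.item e.1))) rl)
    (Nat.beq m₀ (List.rec (motive := fun _ => Nat) 0
      (fun e _ ih => Nat.lor (Nat.shiftLeft 1 e.2) ih) rl))

/-- the generators fix the points -/
noncomputable def fixOK (gl : List (List Nat)) (ps : List Nat) : Bool :=
  forallB (fun w => eqLN (tabs.mov w ps) ps) gl

end Cfsg.Agent.Lib.LyDC
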