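import Mathlib
import Cfsg.Agent.Lib.LyDC.Sound
import Cfsg.Agent.Lib.LyDC.DerivK

/-!
Soundness of the orbit checker: the points of the final mask come from those of the first one
under the generators.
-/

set_option autoImplicit false

namespace Cfsg.Agent.Lib.LyDC

theorem hasBit_iff {m p : ℕ} : hasBit m p = true ↔ m.testBit p = true := by
  show Nat.beq (Nat.land (Nat.shiftRight m p) 1) 1 = true ↔ _
  rw [beqN_iff]
  show (m >>> p) &&& 1 = 1 ↔ _
  rw [Nat.and_one_is_mod, Nat.shiftRight_eq_div_pow, Nat.testBit_eq_decide_div_mod_eq,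
    decide_eq_true_iff]

theorem hasBit_set {m y p : ℕ} :
    hasBit (Nat.lor m (Nat.shiftLeft 1 y)) p = true ↔ p = y ∨ hasBit m p = true := by
  show hasBit (m ||| 1 <<< y) p = true ↔ _
  simp only [hasBit_iff, Nat.testBit_or, Nat.one_shiftLeft, Nat.testBit_two_pow, Bool.or_eq_true,
    decide_eq_true_iff]
  constructor
  · rintro (h | rfl) <;> simp [*]
  · rintro (rfl | h) <;> simp [*]

theorem hasBit_single {y p : ℕ} : hasBit (1 <<< y) p = true ↔ p = y := by
  rw [hasBit_iff, Nat.one_shiftLeft, Nat.testBit_two_pow, decide_eq_true_iff]; exact eq_comm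

theorem hasBit_one {p : ℕ} : hasBit 1 p = true ↔ p = 0 :=
  (show hasBit (1 <<< 0) p = true ↔ p = 0 from hasBit_single)

variable {Q : Type*} [Group Q] (R : Rep tabs Q)

/-- a property that passes along the generators -/
def Passes (gens : List (List ℕ)) (P : ℕ → Prop) : Prop :=
  ∀ g ∈ gens, ∀ x < 19530, P x → P (R.pt (R.ev g) x)

theorem orbC_sound {gens : List (List ℕ)} {P : ℕ → Prop} (hP : Passes R gens P) :
    ∀ (fuel v m : ℕ) (k : ℕ → Bool), orbC gens fuel v m k = true →
      (∀ p, hasBit m p = true → P p) →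
      ∃ m', k m' = true ∧ ∀ p, hasBit m' p = true → P p
  | 0, v, m, k, h, hm => by
    have h' : band (Nat.beq v 0) (k m) = true := h
    rw [band_eq, Bool.and_eq_true] at h'
    exact ⟨m, h'.2, hm⟩
  | fuel + 1, 0, m, k, h, hm => ⟨m, h, hm⟩
  | fuel + 1, v + 1, m, k, h, hm => by
    have h' : hold (Nat.land (v + 1) 65535) (fun y =>
        hold (Nat.land (Nat.shiftRight (v + 1) 16) 65535) fun x =>
          band (band (Nat.blt y 19530) (Nat.blt x 19530)) (band (hasBit m x) (band (bnot (hasBit m y))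
            (band (Nat.blt (Nat.sub (Nat.land (Nat.shiftRight (v + 1) 32) 65535) 1) gens.length)
              (band (Nat.beq
                  (tabs.go (nth [] gens (Nat.sub (Nat.land (Nat.shiftRight (v + 1) 32) 65535) 1)) x) y)
                (hold (Nat.lor m (Nat.shiftLeft 1 y)) fun m' =>
                  hold (Nat.shiftRight (v + 1) 48) fun v' => orbC gens fuel v' m' k)))))) = true := h
    simp only [hold_eq, band_eq, Bool.and_eq_true, beqN_iff, bltN_iff] at h'
    obtain ⟨⟨-, hx⟩, hbx, -, hg, he, hrest⟩ := h'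
    refine orbC_sound hP fuel _ _ k hrest fun p hp => ?_
    rcases hasBit_set.1 hp with rfl | hp
    · rw [← he, R.go_eq _ _ hx]
      refine hP _ ?_ _ hx (hm _ hbx)
      rw [nth_eq, List.getD_eq_getElem _ _ hg]
      exact List.getElem_mem hg
    · exact hm p hp

theorem orbRun_sound {gens : List (List ℕ)} {P : ℕ → Prop} (hP : Passes R gens P) :
    ∀ (cs : List ℕ) (m₀ m₁ : ℕ), orbRun gens cs m₀ m₁ = true →
      (∀ p, hasBit m₀ p = true → P p) → ∀ p, hasBit m₁ p = true → P p
  | [], m₀, m₁, h, hm => by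
    have e : m₀ = m₁ := beqN_iff.1 h
    subst e; exact hm
  | c :: cs, m₀, m₁, h, hm => by
    have h' : orbC gens 512 c m₀ (fun m => orbRun gens cs m m₁) = true := h
    obtain ⟨m', hk, hm'⟩ := orbC_sound R hP 512 c m₀ _ h' hm
    exact orbRun_sound hP cs m' m₁ hk hm'

theorem countBits_eq (m : ℕ) :
    countBits m = ((Finset.range 19530).filter fun p => hasBit m p = true).card := by
  unfold countBits
  generalize 19530 = n
  induction n with
  | zero => rfl
  | succ n ih =>
    rw [Finset.range_add_one, Finset.filter_insert]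
    show (Bool.rec (motive := fun _ => ℕ) _ (Nat.succ _) (hasBit m n)) = _
    rcases hb : hasBit m n with _ | _
    · show Nat.rec (motive := fun _ => ℕ) _ _ n = _
      rw [ih]; simp
    · show Nat.succ (Nat.rec (motive := fun _ => ℕ) _ _ n) = _
      rw [ih, if_pos rfl, Finset.card_insert_of_notMem (by simp)]

theorem fullMask_spec {m : ℕ} (h : fullMask m = true) : ∀ p < 19530, hasBit m p = true :=
  fun p hp => rangeB_spec h p (Nat.zero_le _) (by omega)

theorem mem_fstL {α β : Type} : ∀ {l : List (α × β)} {x : α}, x ∈ fstL l ↔ ∃ y, (x, y) ∈ l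
  | [], x => by simp [fstL]
  | (a, b) :: l, x => by
    show x ∈ a :: fstL l ↔ _
    rw [List.mem_cons, mem_fstL]
    constructor
    · rintro (rfl | ⟨y, hy⟩)
      · exact ⟨b, List.mem_cons_self ..⟩
      · exact ⟨y, List.mem_cons_of_mem _ hy⟩
    · rintro ⟨y, hy⟩
      rcases List.mem_cons.1 hy with e | hy
      · exact Or.inl (Prod.mk.inj e).1
      · exact Or.inr ⟨y, hy⟩

theorem passes_orbit {gens : List (List ℕ)} (S : Subgroup Q) (hg : ∀ g ∈ gens, R.ev g ∈ S)
    (b : ℕ) : Passes R gens fun p => ∃ s ∈ S, R.pt s b = p := by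
  rintro g hg' x - ⟨s, hs, rfl⟩
  exact ⟨s * R.ev g, mul_mem hs (hg g hg'), R.pt_mul _ _ _⟩

/-- orbit length times the stabiliser of the point is at most the order -/
theorem orbit_mul_le [Finite Q] {gens : List (List ℕ)} {cs : List ℕ} {m₀ m₁ b n : ℕ}
    (S : Subgroup Q) (hg : ∀ g ∈ gens, R.ev g ∈ S) (hr : orbRun gens cs m₀ m₁ = true)
    (h₀ : m₀ = 1 <<< b) (hn : countBits m₁ = n) :
    n * Nat.card ↥(S ⊓ R.fixList [b]) ≤ Nat.card S := by
  have horb : ∀ p, hasBit m₁ p = true → ∃ s ∈ S, R.pt s b = p := by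
    refine orbRun_sound R (passes_orbit R S hg b) cs m₀ m₁ hr fun p hp => ?_
    rw [h₀, hasBit_single] at hp
    exact ⟨1, one_mem _, by rw [hp, R.pt_one]⟩
  set F := (Finset.range 19530).filter fun p => hasBit m₁ p = true with hF
  have hch : ∀ p : F, ∃ s ∈ S, R.pt s b = p := fun p =>
    horb p (Finset.mem_filter.1 p.2).2
  choose s hsS hsb using hch
  let f : F × ↥(S ⊓ R.fixList [b]) → S := fun x =>
    ⟨x.2.1 * s x.1, mul_mem x.2.2.1 (hsS x.1)⟩
  have hf : Function.Injective f := by
    rintro ⟨p, a⟩ ⟨p', a'⟩ e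
    have e' : a.1 * s p = a'.1 * s p' := congrArg Subtype.val e
    have hp : (p : ℕ) = p' := by
      have := congrArg (fun g => R.pt g b) e'
      simpa [R.pt_mul, a.2.2 b (List.mem_singleton_self b), a'.2.2 b (List.mem_singleton_self b),
        hsb] using this
    obtain rfl : p = p' := Subtype.ext hp
    exact Prod.ext rfl (Subtype.ext (mul_right_cancel e'))
  have := Nat.card_le_card_of_injective f hf
  rwa [Nat.card_prod, Nat.card_eq_finsetCard, ← countBits_eq, hn] at this

theorem fix_spec {gl : List (List ℕ)} {ps : List ℕ} (hps : ∀ p ∈ ps, p < 19530)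
    (h : fixOK gl ps = true) : ∀ g ∈ gl, R.ev g ∈ R.fixList ps := by
  intro g hg
  have h' := eqLN_iff.1 (forallB_iff.1 h g hg)
  rw [R.mov_eq g ps hps] at h'
  exact (R.imgs_eq_iff _ _).1 h'

end Cfsg.Agent.Lib.LyDC
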