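import Mathlib
import Cfsg.Agent.Lib.LyDC.Deriv
import Cfsg.Agent.Lib.LyDC.Orbit
import Cfsg.Agent.Lib.LyDC.CheckCov0
import Cfsg.Agent.Lib.LyDC.CheckCov1
import Cfsg.Agent.Lib.LyDC.CheckCov2
import Cfsg.Agent.Lib.LyDC.CheckCov3
import Cfsg.Agent.Lib.LyDC.CheckCov4
import Cfsg.Agent.Lib.LyDC.CheckCovMove
import Cfsg.Agent.Lib.LyDC.CheckChains
import Cfsg.Agent.Lib.LyDC.CheckTokens
import Cfsg.Agent.Lib.LyDC.CheckLevImg

/-!
Five double cosets of the image of `Hbar` cover every group with the relations of the derivation,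
and the stabilisers of their cosets are at least as large as those of the Lyons group.
-/

set_option autoImplicit false

namespace Cfsg.Agent.Lib.LyDC

/-- the subgroup generated by the tokens -/
noncomputable def tokGroup : Subgroup Hbar :=
  Subgroup.closure {g | ∃ k < 16, g = rep.ev (nth [] tokWords k)}

/-- the subgroup generated by the images of the tokens -/
noncomputable def imgGroup : Subgroup Hbar :=
  Subgroup.closure {g | ∃ k < 16, g = rep.ev (nth [] imgWords k)}

theorem tok_mem {k : ℕ} (hk : k < 16) : rep.ev (nth [] tokWords k) ∈ tokGroup :=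
  Subgroup.subset_closure (show rep.ev (nth [] tokWords k) ∈
    {g : Hbar | ∃ k < 16, g = rep.ev (nth [] tokWords k)} from ⟨k, hk, rfl⟩)

theorem img_mem {k : ℕ} (hk : k < 16) : rep.ev (nth [] imgWords k) ∈ imgGroup :=
  Subgroup.subset_closure (show rep.ev (nth [] imgWords k) ∈
    {g : Hbar | ∃ k < 16, g = rep.ev (nth [] imgWords k)} from ⟨k, hk, rfl⟩)

theorem catW_mem {T : List (List ℕ)} {S : Subgroup Hbar} (hT : ∀ k < 16, rep.ev (nth [] T k) ∈ S) :
    ∀ a : List ℕ, (∀ x ∈ a, x < 16) → rep.ev (catW T a) ∈ S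
  | [], _ => one_mem _
  | x :: a, h => by
    show rep.ev (nth [] T x ++ catW T a) ∈ S
    rw [rep.ev_append]
    exact mul_mem (hT x (h x (List.mem_cons_self ..)))
      (catW_mem hT a fun y hy => h y (List.mem_cons_of_mem _ hy))

theorem img_le_tok (hI : BaseInj) : imgGroup ≤ tokGroup := by
  refine (Subgroup.closure_le _).2 ?_
  rintro _ ⟨k, hk, rfl⟩
  have h := rangeB_spec img_tok k (Nat.zero_le _) (by omega)
  simp only [band_eq, Bool.and_eq_true, forallB_iff, bltN_iff] at h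
  show rep.ev (nth [] imgWords k) ∈ tokGroup
  rw [rep.eq_of_same base_lt hI h.2]
  exact catW_mem (fun x hx => tok_mem hx) _ h.1

theorem asImg_mem (hI : BaseInj) {gl al : List (List ℕ)} (h : asImg gl al = true) :
    ∀ g ∈ gl, rep.ev g ∈ imgGroup := by
  simp only [asImg, band_eq, Bool.and_eq_true, beqN_iff] at h
  intro g hg
  obtain ⟨i, hi, rfl⟩ := List.getElem_of_mem hg
  have h' := rangeB_spec h.2 i (Nat.zero_le _) (by omega)
  simp only [band_eq, Bool.and_eq_true, forallB_iff, bltN_iff] at h'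
  rw [← List.getD_eq_getElem _ [] hi, ← nth_eq, rep.eq_of_same base_lt hI h'.2]
  exact catW_mem (fun x hx => img_mem hx) _ h'.1

theorem tok_le_fix : tokGroup ≤ rep.fixList [0] := by
  refine (Subgroup.closure_le _).2 ?_
  rintro _ ⟨k, hk, rfl⟩
  refine fix_spec rep (by simp) tok_fix _ ?_
  rw [nth_eq, List.getD_eq_getElem _ _ (show k < tokWords.length from hk)]
  exact List.getElem_mem _

theorem trans_zero : ∀ p < 19530, ∃ s : Hbar, rep.pt s 0 = p := by
  intro p hp
  obtain ⟨s, -, hs⟩ := orbRun_sound rep (passes_orbit rep ⊤ (fun g _ => Subgroup.mem_top _) 0)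
    _ _ _ cov0_run (fun q hq => by
      rw [cov0_start, hasBit_one] at hq
      exact ⟨1, one_mem _, by rw [hq, rep.pt_one]⟩) p (fullMask_spec cov0_full p hp)
  exact ⟨s, hs⟩

theorem count_full {m : ℕ} (h : fullMask m = true) : countBits m = 19530 := by
  rw [countBits_eq, Finset.filter_true_of_mem fun p hp => fullMask_spec h p (Finset.mem_range.1 hp),
    Finset.card_range]

theorem fix_pair_mem {gl : List (List ℕ)} {a b : ℕ} (ha : a < 19530) (hb : b < 19530)
    (h : fixOK gl [a, b] = true) :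
    ∀ g ∈ gl, rep.ev g ∈ rep.fixList [a] ⊓ rep.fixList [b] := fun g hg => by
  have h' := fix_spec rep (by simp [ha, hb]) h g hg
  exact ⟨fun p hp => h' p (by simp_all), fun p hp => h' p (by simp_all)⟩

theorem img_card (hI : BaseInj) : 300000 ≤ Nat.card imgGroup := by
  have m0 := asImg_mem hI lev1_0_img
  have m1 := asImg_mem hI lev1_1_img
  have m2 := asImg_mem hI lev1_2_img
  have f1 := fix_spec rep (ps := [5]) (by simp) lev1_1_fix
  have f2 := fix_pair_mem (by decide) (by decide) lev1_2_fix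
  have h0 := orbit_mul_le rep imgGroup m0 lev1_0_run lev1_0_start lev1_0_count
  have h1 := orbit_mul_le rep (imgGroup ⊓ rep.fixList [5])
    (fun g hg => ⟨m1 g hg, f1 g hg⟩) lev1_1_run lev1_1_start lev1_1_count
  have h2 := orbit_mul_le rep (imgGroup ⊓ rep.fixList [5] ⊓ rep.fixList [6])
    (fun g hg => ⟨⟨m2 g hg, (f2 g hg).1⟩, (f2 g hg).2⟩) lev1_2_run lev1_2_start lev1_2_count
  have : 0 < Nat.card ↥(imgGroup ⊓ rep.fixList [5] ⊓ rep.fixList [6] ⊓ rep.fixList [8]) :=
    Nat.card_pos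
  omega

theorem fix_zero_card_le (hc : Nat.card Hbar ≤ 5859000000) :
    Nat.card (rep.fixList [0] : Subgroup Hbar) ≤ 300000 := by
  have h := orbit_mul_le rep (b := 0) ⊤ (fun g _ => Subgroup.mem_top _) cov0_run
    (by rw [cov0_start]; rfl) (count_full cov0_full)
  rw [top_inf_eq, Subgroup.card_top] at h
  omega

theorem fix_zero_eq (hI : BaseInj) (hc : Nat.card Hbar ≤ 5859000000) :
    imgGroup = rep.fixList [0] ∧ tokGroup = rep.fixList [0] := by
  have h := img_le_tok hI
  have e := Subgroup.eq_of_le_of_card_ge (h.trans tok_le_fix)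
    ((fix_zero_card_le hc).trans (img_card hI))
  exact ⟨e, le_antisymm tok_le_fix (e.ge.trans h)⟩

namespace Ctx

variable {G : Type} [Group G] (C : Ctx G)

/-- the stabiliser of the coset of `W j` -/
noncomputable def S (j : ℕ) : Subgroup Hbar where
  carrier := {s | C.Eqv (C.W j * C.φ s) (C.W j)}
  one_mem' := by simp [Eqv.refl]
  mul_mem' {a b} ha hb := by
    show C.Eqv (C.W j * C.φ (a * b)) (C.W j)
    rw [map_mul, ← mul_assoc]
    exact (ha.mul_right _).trans hb
  inv_mem' {a} ha := by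
    show C.Eqv (C.W j * C.φ a⁻¹) (C.W j)
    have := (ha.mul_right (C.φ a)⁻¹).symm
    rw [mul_inv_cancel_right] at this
    rwa [map_inv]

theorem S_zero : C.S 0 = ⊤ := by
  refine eq_top_iff.2 fun s _ => ?_
  show C.W 0 * C.φ s * (C.W 0)⁻¹ ∈ C.φ.range
  simp [W]

theorem gens_mem {j : ℕ} {gl : List (List ℕ × List (ℕ × Bool))}
    (h : deriv.gensOK numItems j gl = true) : ∀ g ∈ fstL gl, rep.ev g ∈ C.S j := by
  intro g hg
  obtain ⟨s, hs⟩ := mem_fstL.1 hg
  have h' := forallB_iff.1 h _ hs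
  rw [band_eq, Bool.and_eq_true] at h'
  show C.Eqv (C.W j * C.hv g) (C.W j)
  rw [C.hv_eq h'.2]
  exact C.stabs_hold h'.1

theorem img_le_S : imgGroup ≤ C.S 1 := by
  refine (Subgroup.closure_le _).2 ?_
  rintro _ ⟨k, hk, rfl⟩
  show C.W 1 * C.φ (rep.ev (nth [] imgWords k)) * (C.W 1)⁻¹ ∈ C.φ.range
  rw [C.W_one, ← C.tok k hk, mul_inv_cancel_right]
  exact ⟨_, rfl⟩

theorem tok_push (x : Hbar) (hx : x ∈ tokGroup) : ∃ y, C.φ x * C.z = C.z * C.φ y := by
  induction hx using Subgroup.closure_induction with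
  | mem x hx => obtain ⟨k, hk, rfl⟩ := hx; exact ⟨_, C.tok k hk⟩
  | one => exact ⟨1, by simp⟩
  | mul x x' _ _ hx hx' =>
    obtain ⟨y, hy⟩ := hx
    obtain ⟨y', hy'⟩ := hx'
    exact ⟨y * y', by rw [map_mul, map_mul, mul_assoc, hy', ← mul_assoc, hy, mul_assoc]⟩
  | inv x _ hx =>
    obtain ⟨y, hy⟩ := hx
    refine ⟨y⁻¹, ?_⟩
    rw [map_inv, map_inv, inv_mul_eq_iff_eq_mul, ← mul_assoc, hy, mul_inv_cancel_right]

/-- a coset that is one of the five kinds -/
def Reach (g : G) : Prop := ∃ j < 5, ∃ h : Hbar, C.Eqv g (C.W j * C.φ h)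

theorem cover_step (hc : Nat.card Hbar ≤ 5859000000) {j : ℕ}
    {gl : List (List ℕ × List (ℕ × Bool))} {rl : List (ℕ × ℕ)} {cs : List ℕ} {m₀ m₁ : ℕ}
    (hg : deriv.gensOK numItems j gl = true) (hr : deriv.rootsOK numItems j rl m₀ = true)
    (hrun : orbRun (fstL gl) cs m₀ m₁ = true) (hf : fullMask m₁ = true)
    (hlt : ∀ e ∈ rl, (deriv.item e.1).j < 5) (h : Hbar) :
    C.Reach (C.W j * C.φ h * C.z) := by
  rw [Deriv.rootsOK, band_eq, Bool.and_eq_true, forallB_iff, beqN_iff] at hr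
  obtain ⟨hroots, hm₀⟩ := hr
  let P : ℕ → Prop := fun p => ∃ e ∈ rl, ∃ s ∈ C.S j, rep.pt s e.2 = p
  have hP : Passes rep (fstL gl) P := by
    rintro g hg' x - ⟨e, he, s, hs, rfl⟩
    exact ⟨e, he, s * rep.ev g, mul_mem hs (C.gens_mem hg g hg'), rep.pt_mul _ _ _⟩
  have hstart : ∀ p, hasBit m₀ p = true → P p := by
    subst hm₀
    clear hroots hlt hrun
    intro p hp
    suffices ∃ e ∈ rl, e.2 = p by
      obtain ⟨e, he, rfl⟩ := this
      exact ⟨e, he, 1, one_mem _, rep.pt_one _⟩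
    clear hP P
    induction rl with
    | nil =>
      rw [hasBit_iff] at hp
      simp at hp
    | cons e l ih =>
      have hp' : hasBit (Nat.lor (Nat.shiftLeft 1 e.2) (List.rec (motive := fun _ => ℕ) 0
          (fun e _ ih => Nat.lor (Nat.shiftLeft 1 e.2) ih) l)) p = true := hp
      rw [show ∀ a b : ℕ, Nat.lor a b = Nat.lor b a from Nat.or_comm, hasBit_set] at hp'
      rcases hp' with hp' | hp'
      · exact ⟨e, List.mem_cons_self .., hp'.symm⟩
      · obtain ⟨e', he', rfl⟩ := ih hp'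
        exact ⟨e', List.mem_cons_of_mem _ he', rfl⟩
  obtain ⟨e, he, s, hs, hse⟩ := orbRun_sound rep hP _ _ _ hrun hstart (rep.pt h⁻¹ 0)
    (fullMask_spec hf _ (rep.pt_lt _ _ (by decide)))
  have h1 := hroots e he
  simp only [band_eq, Bool.and_eq_true, beqN_iff, bltN_iff] at h1
  obtain ⟨hk, hst, hi, hx, hgo⟩ := h1
  have hst' := bnot_iff.1 hst
  rw [rep.go_eq _ _ hx] at hgo
  have hl : (rep.ev (deriv.item e.1).h)⁻¹ * (s * h) ∈ tokGroup := by
    rw [(fix_zero_eq C.inj hc).2]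
    intro p hp
    rw [List.mem_singleton] at hp
    subst hp
    rw [rep.pt_mul, rep.pt_inv hgo, rep.pt_mul, hse]
    have := rep.pt_inv (g := h⁻¹) (p := 0) rfl
    rwa [inv_inv] at this
  obtain ⟨y, hy⟩ := C.tok_push _ hl
  have he' := (C.holds_edge hst').1 (C.holds_all e.1 hk)
  rw [hi] at he'
  refine ⟨_, hlt e he, rep.ev (deriv.item e.1).g * y, ?_⟩
  have h2 : C.Eqv (C.W j * C.φ h * C.z) (C.W j * C.φ (s * h) * C.z) := by
    have := (hs.symm.mul_right (C.φ h)).mul_right C.z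
    simpa [mul_assoc] using this
  refine h2.trans ?_
  have e2 : C.W j * C.φ (s * h) * C.z =
      C.W j * C.hv (deriv.item e.1).h * C.z * C.φ y := by
    conv_lhs => rw [← mul_inv_cancel_left (rep.ev (deriv.item e.1).h) (s * h), map_mul]
    simp only [mul_assoc, hy, hv]
  rw [e2, map_mul, ← mul_assoc]
  exact he'.mul_right _

theorem reach_z (hc : Nat.card Hbar ≤ 5859000000) {g : G} (hg : C.Reach g) :
    C.Reach (g * C.z) := by
  obtain ⟨j, hj, h, e⟩ := hg
  have key : C.Reach (C.W j * C.φ h * C.z) := by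
    interval_cases j
    · refine ⟨1, by decide, 1, ?_⟩
      rw [C.W_one, map_one, mul_one]
      show C.W 0 * C.φ h * C.z * C.z⁻¹ ∈ C.φ.range
      simp [W]
    · exact C.cover_step hc cov1_gens cov1_roots cov1_run cov1_full (by decide +kernel) h
    · exact C.cover_step hc cov2_gens cov2_roots cov2_run cov2_full (by decide +kernel) h
    · exact C.cover_step hc cov3_gens cov3_roots cov3_run cov3_full (by decide +kernel) h
    · exact C.cover_step hc cov4_gens cov4_roots cov4_run cov4_full (by decide +kernel) h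
  obtain ⟨k, hk, x, hx⟩ := key
  exact ⟨k, hk, x, (e.mul_right C.z).trans hx⟩

theorem reach_mul {g : G} (hg : C.Reach g) (x : Hbar) : C.Reach (g * C.φ x) := by
  obtain ⟨j, hj, h, e⟩ := hg
  refine ⟨j, hj, h * x, ?_⟩
  rw [map_mul, ← mul_assoc]
  exact e.mul_right _

/-- five double cosets cover the group -/
theorem reach_all (hc : Nat.card Hbar ≤ 5859000000)
    (hgen : Subgroup.closure ((C.φ.range : Set G) ∪ {C.z}) = ⊤) (g : G) : C.Reach g := by
  have hz : C.z⁻¹ = C.φ (rep.ev deriv.uI) * C.z := by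
    rw [show C.φ (rep.ev deriv.uI) = (C.z * C.z)⁻¹ from C.hv_uI]
    simp
  have step : ∀ y ∈ Subgroup.closure ((C.φ.range : Set G) ∪ {C.z}),
      ∀ a, C.Reach a → C.Reach (a * y) ∧ C.Reach (a * y⁻¹) := by
    intro y hy
    induction hy using Subgroup.closure_induction with
    | mem y hy =>
      intro a ha
      rcases hy with ⟨x, rfl⟩ | hy
      · exact ⟨C.reach_mul ha x, by rw [← map_inv]; exact C.reach_mul ha _⟩
      · rw [Set.mem_singleton_iff.1 hy, hz, ← mul_assoc]
        exact ⟨C.reach_z hc ha, C.reach_z hc (C.reach_mul ha _)⟩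
    | one => intro a ha; simpa using ha
    | mul x y _ _ hx hy =>
      intro a ha
      rw [mul_inv_rev, ← mul_assoc, ← mul_assoc]
      exact ⟨(hy _ (hx a ha).1).1, (hx _ (hy a ha).2).2⟩
    | inv x _ hx => intro a ha; rw [inv_inv]; exact (hx a ha).symm
  have h1 : C.Reach 1 := ⟨0, by decide, 1, by simp [W, Eqv.refl]⟩
  have := (step g (hgen ▸ Subgroup.mem_top g) 1 h1).1
  rwa [one_mul] at this

/-- the orders of the stabilisers in the Lyons group -/
def stabOrder : ℕ → ℕ
  | 0 => 5859000000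
  | 1 => 300000
  | 2 => 6048
  | 3 => 2880
  | _ => 1008

theorem stab_two : 6048 ≤ Nat.card (C.S 2) := by
  have m0 := C.gens_mem lev2_0_gens
  have m1 := C.gens_mem lev2_1_gens
  have m2 := C.gens_mem lev2_2_gens
  have f1 := fix_spec rep (ps := [0]) (by simp) lev2_1_fix
  have f2 := fix_pair_mem (by decide) (by decide) lev2_2_fix
  have h0 := orbit_mul_le rep (C.S 2) m0 lev2_0_run lev2_0_start lev2_0_count
  have h1 := orbit_mul_le rep (C.S 2 ⊓ rep.fixList [0])
    (fun g hg => ⟨m1 g hg, f1 g hg⟩) lev2_1_run lev2_1_start lev2_1_count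
  have h2 := orbit_mul_le rep (C.S 2 ⊓ rep.fixList [0] ⊓ rep.fixList [5])
    (fun g hg => ⟨⟨m2 g hg, (f2 g hg).1⟩, (f2 g hg).2⟩) lev2_2_run lev2_2_start lev2_2_count
  have : 0 < Nat.card ↥(C.S 2 ⊓ rep.fixList [0] ⊓ rep.fixList [5] ⊓ rep.fixList [6]) :=
    Nat.card_pos
  omega

theorem stab_three : 2880 ≤ Nat.card (C.S 3) := by
  have m0 := C.gens_mem lev3_0_gens
  have m1 := C.gens_mem lev3_1_gens
  have m2 := C.gens_mem lev3_2_gens
  have f1 := fix_spec rep (ps := [0]) (by simp) lev3_1_fix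
  have f2 := fix_pair_mem (by decide) (by decide) lev3_2_fix
  have h0 := orbit_mul_le rep (C.S 3) m0 lev3_0_run lev3_0_start lev3_0_count
  have h1 := orbit_mul_le rep (C.S 3 ⊓ rep.fixList [0])
    (fun g hg => ⟨m1 g hg, f1 g hg⟩) lev3_1_run lev3_1_start lev3_1_count
  have h2 := orbit_mul_le rep (C.S 3 ⊓ rep.fixList [0] ⊓ rep.fixList [5])
    (fun g hg => ⟨⟨m2 g hg, (f2 g hg).1⟩, (f2 g hg).2⟩) lev3_2_run lev3_2_start lev3_2_count
  have : 0 < Nat.card ↥(C.S 3 ⊓ rep.fixList [0] ⊓ rep.fixList [5] ⊓ rep.fixList [6]) :=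
    Nat.card_pos
  omega

theorem stab_four : 1008 ≤ Nat.card (C.S 4) := by
  have m0 := C.gens_mem lev4_0_gens
  have m1 := C.gens_mem lev4_1_gens
  have f1 := fix_spec rep (ps := [0]) (by simp) lev4_1_fix
  have h0 := orbit_mul_le rep (C.S 4) m0 lev4_0_run lev4_0_start lev4_0_count
  have h1 := orbit_mul_le rep (C.S 4 ⊓ rep.fixList [0])
    (fun g hg => ⟨m1 g hg, f1 g hg⟩) lev4_1_run lev4_1_start lev4_1_count
  have : 0 < Nat.card ↥(C.S 4 ⊓ rep.fixList [0] ⊓ rep.fixList [5]) := Nat.card_pos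
  omega

theorem stabOrder_le (hc : Nat.card Hbar = 5859000000) :
    ∀ j < 5, stabOrder j ≤ Nat.card (C.S j) := by
  intro j hj
  interval_cases j
  · rw [C.S_zero, Subgroup.card_top, hc]; exact le_rfl
  · exact (img_card C.inj).trans (Nat.le_of_dvd Nat.card_pos (Subgroup.card_dvd_of_le C.img_le_S))
  · exact C.stab_two
  · exact C.stab_three
  · exact C.stab_four

end Ctx

end Cfsg.Agent.Lib.LyDC
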