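import Cfsg.Agent.Lib.LyDC.Main
import Cfsg.Agent.Lib.LyH.Hbar

/-!
The group of the relations 1-44 on the 19530 points is the one used by the derivation.
-/

set_option autoImplicit false
set_option maxRecDepth 100000

namespace Cfsg.Agent.Lib.LyDC

open Cfsg.Agent.Lib.LyMult97 (genVal)

theorem tabs_agree :
    forallB (fun l => rangeB (fun b => rangeB (fun p => Nat.beq (tabs.act l p) (LyH.lyPk.act l p))
      1953 (Nat.mul b 1953)) 10 0) [0, 2, 4, 6] = true := by
  decide +kernel

theorem letter_same {l : ℕ} (hl : l ∈ [0, 2, 4, 6]) : permRep.f l = LyH.permRep.f l := by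
  have hl8 : l < 8 := (show ∀ x ∈ [0, 2, 4, 6], x < 8 by decide) l hl
  show (letter l)⁻¹ = (LyH.lyLetter l)⁻¹
  refine congrArg _ (Equiv.ext fun p => Fin.ext ?_)
  rw [letter_apply hl8, LyH.lyLetter_apply hl8]
  have h := rangeB_spec (forallB_iff.1 tabs_agree l hl) (p.1 / 1953) (Nat.zero_le _) (by omega)
  exact beqN_iff.1 (rangeB_spec h p.1 (by show p.1 / 1953 * 1953 ≤ p.1; omega)
    (by show p.1 < p.1 / 1953 * 1953 + 1953; omega))

theorem Hbar_same : Hbar = LyH.Hbar := by
  rw [Hbar, LyH.Hbar, letter_same (l := 0) (by decide), letter_same (l := 2) (by decide),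
    letter_same (l := 4) (by decide), letter_same (l := 6) (by decide)]

/-- the order of `Hbar` -/
theorem card_Hbar : Nat.card Hbar = 5859000000 := by
  rw [Hbar_same]
  exact LyH.card_Hbar

/-- four points form a base -/
theorem baseInj : BaseInj := baseInj_of_card_le card_Hbar.le

/-- `Hbar` maps onto every group generated by four elements with the relations 1-44 -/
theorem exists_hom {G : Type*} [Group G] {a b c d : G} (h : LyH.LyRel a b c d) :
    ∃ φ : Hbar →* G, φ (rep.f 0) = a ∧ φ (rep.f 2) = b ∧ φ (rep.f 4) = c ∧ φ (rep.f 6) = d ∧
      φ.range = Subgroup.closure {a, b, c, d} := by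
  obtain ⟨ψ, ha, hb, hc, hd, hr⟩ := LyH.exists_hom h
  have k : ∀ l, ∀ hl : l ∈ [0, 2, 4, 6],
      MulEquiv.subgroupCongr Hbar_same (rep.f l) = LyH.rep.f l := fun l hl =>
    Subtype.ext (letter_same hl)
  refine ⟨ψ.comp (MulEquiv.subgroupCongr Hbar_same).toMonoidHom, ?_, ?_, ?_, ?_, ?_⟩
  · show ψ (MulEquiv.subgroupCongr Hbar_same (rep.f 0)) = a
    rw [k 0 (by decide), ha]
  · show ψ (MulEquiv.subgroupCongr Hbar_same (rep.f 2)) = b
    rw [k 2 (by decide), hb]
  · show ψ (MulEquiv.subgroupCongr Hbar_same (rep.f 4)) = c
    rw [k 4 (by decide), hc]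
  · show ψ (MulEquiv.subgroupCongr Hbar_same (rep.f 6)) = d
    rw [k 6 (by decide), hd]
  · rw [MonoidHom.range_comp, MonoidHom.range_eq_top.2 (MulEquiv.surjective _),
      ← MonoidHom.range_eq_map, hr]

theorem lyRel_of_rels {G : Type*} [Group G] {A B C D Z : G} (h : RelsHold A B C D Z) :
    LyH.LyRel A B C D := by
  constructor
  case r1 =>
    have e := h 0 (by decide) (by decide) _ rfl
    simp only [map_mul, map_inv, map_pow, FreeGroup.lift_apply_of, genVal] at e
    exact e
  case r2 =>
    have e := h 1 (by decide) (by decide) _ rfl
    simp only [map_mul, map_inv, map_pow, FreeGroup.lift_apply_of, genVal] at e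
    exact e
  case r3 =>
    have e := h 2 (by decide) (by decide) _ rfl
    simp only [map_mul, map_inv, map_pow, FreeGroup.lift_apply_of, genVal] at e
    exact e
  case r4 =>
    have e := h 3 (by decide) (by decide) _ rfl
    simp only [map_mul, map_inv, map_pow, FreeGroup.lift_apply_of, genVal] at e
    exact e
  case r5 =>
    have e := h 4 (by decide) (by decide) _ rfl
    simp only [map_mul, map_inv, map_pow, FreeGroup.lift_apply_of, genVal] at e
    exact e
  case r11 =>
    have e := h 10 (by decide) (by decide) _ rfl
    simp only [map_mul, map_inv, map_pow, FreeGroup.lift_apply_of, genVal] at e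
    exact e
  case r12 =>
    have e := h 11 (by decide) (by decide) _ rfl
    simp only [map_mul, map_inv, map_pow, FreeGroup.lift_apply_of, genVal] at e
    exact e
  case r13 =>
    have e := h 12 (by decide) (by decide) _ rfl
    simp only [map_mul, map_inv, map_pow, FreeGroup.lift_apply_of, genVal] at e
    exact e
  case r14 =>
    have e := h 13 (by decide) (by decide) _ rfl
    simp only [map_mul, map_inv, map_pow, FreeGroup.lift_apply_of, genVal] at e
    exact e
  case r15 =>
    have e := h 14 (by decide) (by decide) _ rfl
    simp only [map_mul, map_inv, map_pow, FreeGroup.lift_apply_of, genVal] at e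
    exact e
  case r16 =>
    have e := h 15 (by decide) (by decide) _ rfl
    simp only [map_mul, map_inv, map_pow, FreeGroup.lift_apply_of, genVal] at e
    exact e
  case r17 =>
    have e := h 16 (by decide) (by decide) _ rfl
    simp only [map_mul, map_inv, map_pow, FreeGroup.lift_apply_of, genVal] at e
    exact e
  case r18 =>
    have e := h 17 (by decide) (by decide) _ rfl
    simp only [map_mul, map_inv, map_pow, FreeGroup.lift_apply_of, genVal] at e
    exact e
  case r19 =>
    have e := h 18 (by decide) (by decide) _ rfl
    simp only [map_mul, map_inv, map_pow, FreeGroup.lift_apply_of, genVal] at e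
    exact e
  case r20 =>
    have e := h 19 (by decide) (by decide) _ rfl
    simp only [map_mul, map_inv, map_pow, FreeGroup.lift_apply_of, genVal] at e
    exact e
  case r21 =>
    have e := h 20 (by decide) (by decide) _ rfl
    simp only [map_mul, map_inv, map_pow, FreeGroup.lift_apply_of, genVal] at e
    exact e
  case r22 =>
    have e := h 21 (by decide) (by decide) _ rfl
    simp only [map_mul, map_inv, map_pow, FreeGroup.lift_apply_of, genVal] at e
    exact e
  case r23 =>
    have e := h 22 (by decide) (by decide) _ rfl
    simp only [map_mul, map_inv, map_pow, FreeGroup.lift_apply_of, genVal] at e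
    exact e
  case r24 =>
    have e := h 23 (by decide) (by decide) _ rfl
    simp only [map_mul, map_inv, map_pow, FreeGroup.lift_apply_of, genVal] at e
    exact e
  case r25 =>
    have e := h 24 (by decide) (by decide) _ rfl
    simp only [map_mul, map_inv, map_pow, FreeGroup.lift_apply_of, genVal] at e
    exact e
  case r26 =>
    have e := h 25 (by decide) (by decide) _ rfl
    simp only [map_mul, map_inv, map_pow, FreeGroup.lift_apply_of, genVal] at e
    exact e
  case r27 =>
    have e := h 26 (by decide) (by decide) _ rfl
    simp only [map_mul, map_inv, map_pow, FreeGroup.lift_apply_of, genVal] at e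
    exact e
  case r28 =>
    have e := h 27 (by decide) (by decide) _ rfl
    simp only [map_mul, map_inv, map_pow, FreeGroup.lift_apply_of, genVal] at e
    exact e
  case r30 =>
    have e := h 29 (by decide) (by decide) _ rfl
    simp only [map_mul, map_inv, map_pow, FreeGroup.lift_apply_of, genVal] at e
    exact e
  case r31 =>
    have e := h 30 (by decide) (by decide) _ rfl
    simp only [map_mul, map_inv, map_pow, FreeGroup.lift_apply_of, genVal] at e
    exact e
  case r32 =>
    have e := h 31 (by decide) (by decide) _ rfl
    simp only [map_mul, map_inv, map_pow, FreeGroup.lift_apply_of, genVal] at e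
    exact e
  case r33 =>
    have e := h 32 (by decide) (by decide) _ rfl
    simp only [map_mul, map_inv, map_pow, FreeGroup.lift_apply_of, genVal] at e
    exact e
  case r34 =>
    have e := h 33 (by decide) (by decide) _ rfl
    simp only [map_mul, map_inv, map_pow, FreeGroup.lift_apply_of, genVal] at e
    exact e
  case r35 =>
    have e := h 34 (by decide) (by decide) _ rfl
    simp only [map_mul, map_inv, map_pow, FreeGroup.lift_apply_of, genVal] at e
    exact e
  case r36 =>
    have e := h 35 (by decide) (by decide) _ rfl
    simp only [map_mul, map_inv, map_pow, FreeGroup.lift_apply_of, genVal] at e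
    exact e
  case r37 =>
    have e := h 36 (by decide) (by decide) _ rfl
    simp only [map_mul, map_inv, map_pow, FreeGroup.lift_apply_of, genVal] at e
    exact e
  case r38 =>
    have e := h 37 (by decide) (by decide) _ rfl
    simp only [map_mul, map_inv, map_pow, FreeGroup.lift_apply_of, genVal] at e
    exact e
  case r39 =>
    have e := h 38 (by decide) (by decide) _ rfl
    simp only [map_mul, map_inv, map_pow, FreeGroup.lift_apply_of, genVal] at e
    exact e
  case r40 =>
    have e := h 39 (by decide) (by decide) _ rfl
    simp only [map_mul, map_inv, map_pow, FreeGroup.lift_apply_of, genVal] at e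
    exact e
  case r41 =>
    have e := h 40 (by decide) (by decide) _ rfl
    simp only [map_mul, map_inv, map_pow, FreeGroup.lift_apply_of, genVal] at e
    exact e
  case r42 =>
    have e := h 41 (by decide) (by decide) _ rfl
    simp only [map_mul, map_inv, map_pow, FreeGroup.lift_apply_of, genVal] at e
    exact e
  case r43 =>
    have e := h 42 (by decide) (by decide) _ rfl
    simp only [map_mul, map_inv, map_pow, FreeGroup.lift_apply_of, genVal] at e
    exact e
  case r44 =>
    have e := h 43 (by decide) (by decide) _ rfl
    simp only [map_mul, map_inv, map_pow, FreeGroup.lift_apply_of, genVal] at e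
    exact e

/-- the derivation bound for any group with the relations 1-82 and 84 -/
theorem dc_bound {G : Type} [Group G] {A B C D Z : G} (h : RelsHold A B C D Z) :
    Finite (Subgroup.closure ({A, B, C, D, Z} : Set G)) ∧
      Nat.card (Subgroup.closure ({A, B, C, D, Z} : Set G)) ≤ 51765179004000000 := by
  obtain ⟨φ, ha, hb, hc, hd, -⟩ := exists_hom (lyRel_of_rels h)
  exact closure_card_le card_Hbar ⟨ha, hb, hc, hd⟩ h

end Cfsg.Agent.Lib.LyDC

namespace Cfsg.Agent.Lib.LyDC

/-- the bound in the form used for the multiplier -/
theorem dcBound : LyMult97.DCBound 51765179004000000 := fun _ _ _ _ _ _ _ h => dc_bound h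

end Cfsg.Agent.Lib.LyDC
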