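import Cfsg.Agent.Lib.LyDC.OrbitData

/-! The orbits of the stabiliser chains are closed under their generators. -/

set_option maxRecDepth 100000

namespace Cfsg.Agent.Lib.LyDC

/-- the mask is closed under the generators -/
noncomputable def closedOK (gl : List (List Nat)) (m : Nat) : Bool :=
  rangeB (fun p => Bool.rec (motive := fun _ => Bool) true
    (forallB (fun g => hold (tabs.go g p) fun q => hasBit m q) gl) (hasBit m p)) 19530 0

/-- the generators of the levels from 0 on -/
noncomputable def lev1_0U : List (List Nat) := fstL lev1_0G ++ fstL lev1_1G ++ fstL lev1_2G

/-- the generators of the levels from 1 on -/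
noncomputable def lev1_1U : List (List Nat) := fstL lev1_1G ++ fstL lev1_2G

/-- the generators of the levels from 2 on -/
noncomputable def lev1_2U : List (List Nat) := fstL lev1_2G

/-- the generators of the levels from 0 on -/
noncomputable def lev2_0U : List (List Nat) := fstL lev2_0G ++ fstL lev2_1G ++ fstL lev2_2G

/-- the generators of the levels from 1 on -/
noncomputable def lev2_1U : List (List Nat) := fstL lev2_1G ++ fstL lev2_2G

/-- the generators of the levels from 2 on -/
noncomputable def lev2_2U : List (List Nat) := fstL lev2_2G

/-- the generators of the levels from 0 on -/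
noncomputable def lev3_0U : List (List Nat) := fstL lev3_0G ++ fstL lev3_1G ++ fstL lev3_2G

/-- the generators of the levels from 1 on -/
noncomputable def lev3_1U : List (List Nat) := fstL lev3_1G ++ fstL lev3_2G

/-- the generators of the levels from 2 on -/
noncomputable def lev3_2U : List (List Nat) := fstL lev3_2G

/-- the generators of the levels from 0 on -/
noncomputable def lev4_0U : List (List Nat) := fstL lev4_0G ++ fstL lev4_1G

/-- the generators of the levels from 1 on -/
noncomputable def lev4_1U : List (List Nat) := fstL lev4_1G

theorem lev1_0_closed : closedOK lev1_0U lev1_0M.2 = true := by decide +kernel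

theorem lev1_0_self : hasBit lev1_0M.2 5 = true := by decide +kernel

theorem lev1_1_closed : closedOK lev1_1U lev1_1M.2 = true := by decide +kernel

theorem lev1_1_self : hasBit lev1_1M.2 6 = true := by decide +kernel

theorem lev1_1_fixU : fixOK lev1_1U [5] = true := by decide +kernel

theorem lev1_2_closed : closedOK lev1_2U lev1_2M.2 = true := by decide +kernel

theorem lev1_2_self : hasBit lev1_2M.2 8 = true := by decide +kernel

theorem lev1_2_fixU : fixOK lev1_2U [6] = true := by decide +kernel

theorem lev2_0_closed : closedOK lev2_0U lev2_0M.2 = true := by decide +kernel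

theorem lev2_0_self : hasBit lev2_0M.2 0 = true := by decide +kernel

theorem lev2_1_closed : closedOK lev2_1U lev2_1M.2 = true := by decide +kernel

theorem lev2_1_self : hasBit lev2_1M.2 5 = true := by decide +kernel

theorem lev2_1_fixU : fixOK lev2_1U [0] = true := by decide +kernel

theorem lev2_2_closed : closedOK lev2_2U lev2_2M.2 = true := by decide +kernel

theorem lev2_2_self : hasBit lev2_2M.2 6 = true := by decide +kernel

theorem lev2_2_fixU : fixOK lev2_2U [5] = true := by decide +kernel

theorem lev3_0_closed : closedOK lev3_0U lev3_0M.2 = true := by decide +kernel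

theorem lev3_0_self : hasBit lev3_0M.2 0 = true := by decide +kernel

theorem lev3_1_closed : closedOK lev3_1U lev3_1M.2 = true := by decide +kernel

theorem lev3_1_self : hasBit lev3_1M.2 5 = true := by decide +kernel

theorem lev3_1_fixU : fixOK lev3_1U [0] = true := by decide +kernel

theorem lev3_2_closed : closedOK lev3_2U lev3_2M.2 = true := by decide +kernel

theorem lev3_2_self : hasBit lev3_2M.2 6 = true := by decide +kernel

theorem lev3_2_fixU : fixOK lev3_2U [5] = true := by decide +kernel

theorem lev4_0_closed : closedOK lev4_0U lev4_0M.2 = true := by decide +kernel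

theorem lev4_0_self : hasBit lev4_0M.2 0 = true := by decide +kernel

theorem lev4_1_closed : closedOK lev4_1U lev4_1M.2 = true := by decide +kernel

theorem lev4_1_self : hasBit lev4_1M.2 5 = true := by decide +kernel

theorem lev4_1_fixU : fixOK lev4_1U [0] = true := by decide +kernel

end Cfsg.Agent.Lib.LyDC
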