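import Mathlib
import Cfsg.Agent.Lib.LyDC.Bound
import Cfsg.Agent.Lib.LyDC.CheckClosed

/-!
The products of orbit lengths divide the orders of the stabilisers.
-/

set_option autoImplicit false

namespace Cfsg.Agent.Lib.LyDC

/-- the subgroup of `Hbar` generated by listed words -/
noncomputable def wordGroup (gl : List (List ℕ)) : Subgroup Hbar :=
  Subgroup.closure {g | ∃ w ∈ gl, g = rep.ev w}

theorem word_mem {gl : List (List ℕ)} {w : List ℕ} (hw : w ∈ gl) : rep.ev w ∈ wordGroup gl :=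
  Subgroup.subset_closure (show rep.ev w ∈ {g : Hbar | ∃ w ∈ gl, g = rep.ev w} from ⟨w, hw, rfl⟩)

theorem wordGroup_le {gl : List (List ℕ)} {S : Subgroup Hbar} (h : ∀ w ∈ gl, rep.ev w ∈ S) :
    wordGroup gl ≤ S := by
  refine (Subgroup.closure_le _).2 ?_
  rintro _ ⟨w, hw, rfl⟩
  exact h w hw

/-- the orbit length times the stabiliser is the order -/
theorem orbit_mul_eq {gl gr : List (List ℕ)} {cs : List ℕ} {m₀ m₁ b n : ℕ} (hb : b < 19530)
    (hsub : ∀ w ∈ gr, w ∈ gl) (hr : orbRun gr cs m₀ m₁ = true) (h₀ : m₀ = 1 <<< b) (hn : countBits m₁ = n)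
    (hbit : hasBit m₁ b = true) (hc : closedOK gl m₁ = true) :
    n * Nat.card ↥(wordGroup gl ⊓ rep.fixList [b]) = Nat.card (wordGroup gl) := by
  set S := wordGroup gl with hS
  refine le_antisymm (orbit_mul_le rep S (fun g hg => word_mem (hsub g hg)) hr h₀ hn) ?_
  have hclosed : ∀ s ∈ S, ∀ p < 19530, hasBit m₁ p = true → hasBit m₁ (rep.pt s p) = true := by
    intro s hs
    have hs' : s ∈ Submonoid.closure {g : Hbar | ∃ w ∈ gl, g = rep.ev w} := by
      rw [← Subgroup.closure_toSubmonoid_of_finite]; exact hs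
    clear hs
    induction hs' using Submonoid.closure_induction with
    | mem x hx =>
      obtain ⟨w, hw, rfl⟩ := hx
      intro p hp hm
      have h := rangeB_spec hc p (Nat.zero_le _) (by omega)
      rw [hm] at h
      have h' := forallB_iff.1 h w hw
      rw [hold_eq, rep.go_eq _ _ hp] at h'
      exact h'
    | one => intro p _ hm; rwa [rep.pt_one]
    | mul x y _ _ hx hy =>
      intro p hp hm
      rw [rep.pt_mul]
      exact hy _ (rep.pt_lt _ _ hp) (hx p hp hm)
  set F := (Finset.range 19530).filter fun p => hasBit m₁ p = true with hF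
  have hch : ∀ s : S, rep.pt s.1 b ∈ F := fun s =>
    Finset.mem_filter.2 ⟨Finset.mem_range.2 (rep.pt_lt _ _ hb), hclosed _ s.2 b hb hbit⟩
  have horb : ∀ p : F, ∃ s ∈ S, rep.pt s b = p := fun p => by
    refine orbRun_sound rep (passes_orbit rep S (fun g hg => word_mem (hsub g hg)) b) cs m₀ m₁ hr
      (fun q hq => ?_) p (Finset.mem_filter.1 p.2).2
    rw [h₀, hasBit_single] at hq
    exact ⟨1, one_mem _, by rw [hq, rep.pt_one]⟩
  choose t htS htb using horb
  let f : S → F × ↥(S ⊓ rep.fixList [b]) := fun s =>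
    ⟨⟨_, hch s⟩, ⟨s.1 * (t ⟨_, hch s⟩)⁻¹, S.mul_mem s.2 (S.inv_mem (htS _)), fun p hp => by
      rw [List.mem_singleton.1 hp, rep.pt_mul]
      exact rep.pt_inv (htb ⟨_, hch s⟩)⟩⟩
  have hf : Function.Injective f := by
    intro s s' e
    have e1 : (⟨rep.pt s.1 b, hch s⟩ : F) = ⟨rep.pt s'.1 b, hch s'⟩ := congrArg Prod.fst e
    have e2 : s.1 * (t ⟨_, hch s⟩)⁻¹ = s'.1 * (t ⟨_, hch s'⟩)⁻¹ :=
      congrArg (fun x : F × ↥(S ⊓ rep.fixList [b]) => (x.2 : Hbar)) e
    rw [e1] at e2
    exact Subtype.ext (mul_right_cancel e2)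
  have := Nat.card_le_card_of_injective f hf
  rwa [Nat.card_prod, Nat.card_eq_finsetCard, ← countBits_eq, hn] at this

theorem level_dvd {gl gl' gr : List (List ℕ)} {cs : List ℕ} {m₀ m₁ b n d : ℕ} (hb : b < 19530)
    (hsub : ∀ w ∈ gr, w ∈ gl) (hr : orbRun gr cs m₀ m₁ = true) (h₀ : m₀ = 1 <<< b)
    (hn : countBits m₁ = n) (hbit : hasBit m₁ b = true) (hc : closedOK gl m₁ = true)
    (hsub' : ∀ w ∈ gl', w ∈ gl) (hfix : fixOK gl' [b] = true)
    (hd : d ∣ Nat.card (wordGroup gl')) : n * d ∣ Nat.card (wordGroup gl) := by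
  rw [← orbit_mul_eq hb hsub hr h₀ hn hbit hc]
  refine Nat.mul_dvd_mul_left n (hd.trans (Subgroup.card_dvd_of_le (wordGroup_le fun w hw =>
    ⟨word_mem (hsub' w hw), fix_spec rep (by simpa using hb) hfix w hw⟩)))

theorem last_dvd {gl gr : List (List ℕ)} {cs : List ℕ} {m₀ m₁ b n : ℕ} (hb : b < 19530)
    (hsub : ∀ w ∈ gr, w ∈ gl) (hr : orbRun gr cs m₀ m₁ = true) (h₀ : m₀ = 1 <<< b)
    (hn : countBits m₁ = n) (hbit : hasBit m₁ b = true) (hc : closedOK gl m₁ = true) :
    n ∣ Nat.card (wordGroup gl) :=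
  ⟨_, (orbit_mul_eq hb hsub hr h₀ hn hbit hc).symm⟩

namespace Ctx

variable {G : Type} [Group G] (C : Ctx G)

theorem stab_one_dvd : 300000 ∣ Nat.card (C.S 1) := by
  have h2 := last_dvd (b := 8) (by decide) (fun _ h => h) lev1_2_run lev1_2_start lev1_2_count
    lev1_2_self lev1_2_closed
  have h1 := level_dvd (b := 6) (gl := lev1_1U) (by decide) (by simp +contextual [lev1_1U]) lev1_1_run
    lev1_1_start lev1_1_count lev1_1_self lev1_1_closed (gl' := lev1_2U)
    (by simp +contextual [lev1_1U, lev1_2U]) lev1_2_fixU h2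
  have h0 := level_dvd (b := 5) (gl := lev1_0U) (by decide) (by simp +contextual [lev1_0U]) lev1_0_run
    lev1_0_start lev1_0_count lev1_0_self lev1_0_closed (gl' := lev1_1U)
    (by simp +contextual [lev1_0U, lev1_1U]) lev1_1_fixU h1
  refine h0.trans (Subgroup.card_dvd_of_le (wordGroup_le fun w hw => ?_))
  simp only [lev1_0U, List.mem_append] at hw
  rcases hw with (hw | hw) | hw
  exacts [C.gens_mem lev1_0_gens w hw, C.gens_mem lev1_1_gens w hw, C.gens_mem lev1_2_gens w hw]

theorem stab_two_dvd : 6048 ∣ Nat.card (C.S 2) := by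
  have h2 := last_dvd (b := 6) (by decide) (fun _ h => h) lev2_2_run lev2_2_start lev2_2_count
    lev2_2_self lev2_2_closed
  have h1 := level_dvd (b := 5) (gl := lev2_1U) (by decide) (by simp +contextual [lev2_1U]) lev2_1_run
    lev2_1_start lev2_1_count lev2_1_self lev2_1_closed (gl' := lev2_2U)
    (by simp +contextual [lev2_1U, lev2_2U]) lev2_2_fixU h2
  have h0 := level_dvd (b := 0) (gl := lev2_0U) (by decide) (by simp +contextual [lev2_0U]) lev2_0_run
    lev2_0_start lev2_0_count lev2_0_self lev2_0_closed (gl' := lev2_1U)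
    (by simp +contextual [lev2_0U, lev2_1U]) lev2_1_fixU h1
  refine h0.trans (Subgroup.card_dvd_of_le (wordGroup_le fun w hw => ?_))
  simp only [lev2_0U, List.mem_append] at hw
  rcases hw with (hw | hw) | hw
  exacts [C.gens_mem lev2_0_gens w hw, C.gens_mem lev2_1_gens w hw, C.gens_mem lev2_2_gens w hw]

theorem stab_three_dvd : 2880 ∣ Nat.card (C.S 3) := by
  have h2 := last_dvd (b := 6) (by decide) (fun _ h => h) lev3_2_run lev3_2_start lev3_2_count
    lev3_2_self lev3_2_closed
  have h1 := level_dvd (b := 5) (gl := lev3_1U) (by decide) (by simp +contextual [lev3_1U]) lev3_1_run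
    lev3_1_start lev3_1_count lev3_1_self lev3_1_closed (gl' := lev3_2U)
    (by simp +contextual [lev3_1U, lev3_2U]) lev3_2_fixU h2
  have h0 := level_dvd (b := 0) (gl := lev3_0U) (by decide) (by simp +contextual [lev3_0U]) lev3_0_run
    lev3_0_start lev3_0_count lev3_0_self lev3_0_closed (gl' := lev3_1U)
    (by simp +contextual [lev3_0U, lev3_1U]) lev3_1_fixU h1
  refine h0.trans (Subgroup.card_dvd_of_le (wordGroup_le fun w hw => ?_))
  simp only [lev3_0U, List.mem_append] at hw
  rcases hw with (hw | hw) | hw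
  exacts [C.gens_mem lev3_0_gens w hw, C.gens_mem lev3_1_gens w hw, C.gens_mem lev3_2_gens w hw]

theorem stab_four_dvd : 1008 ∣ Nat.card (C.S 4) := by
  have h1 := last_dvd (b := 5) (by decide) (fun _ h => h) lev4_1_run lev4_1_start lev4_1_count
    lev4_1_self lev4_1_closed
  have h0 := level_dvd (b := 0) (gl := lev4_0U) (by decide) (by simp +contextual [lev4_0U]) lev4_0_run
    lev4_0_start lev4_0_count lev4_0_self lev4_0_closed (gl' := lev4_1U)
    (by simp +contextual [lev4_0U, lev4_1U]) lev4_1_fixU h1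
  refine h0.trans (Subgroup.card_dvd_of_le (wordGroup_le fun w hw => ?_))
  simp only [lev4_0U, List.mem_append] at hw
  rcases hw with hw | hw
  exacts [C.gens_mem lev4_0_gens w hw, C.gens_mem lev4_1_gens w hw]

theorem stabOrder_dvd (hc : Nat.card Hbar = 5859000000) :
    ∀ j < 5, stabOrder j ∣ Nat.card (C.S j) := by
  intro j hj
  interval_cases j
  · rw [C.S_zero, Subgroup.card_top, hc]; exact dvd_refl _
  · exact C.stab_one_dvd
  · exact C.stab_two_dvd
  · exact C.stab_three_dvd
  · exact C.stab_four_dvd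

end Ctx

end Cfsg.Agent.Lib.LyDC
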