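import Cfsg.Agent.Lib.LyDC.OrbitData

/-! The chain of the stabiliser of the point 0 fixes the earlier base points. -/

set_option maxRecDepth 100000

namespace Cfsg.Agent.Lib.LyDC

theorem lev1_0_base : fixOK (fstL lev1_0G) [0] = true := by decide +kernel

theorem lev1_1_base : fixOK (fstL lev1_1G) [0, 5] = true := by decide +kernel

theorem lev1_2_base : fixOK (fstL lev1_2G) [0, 5, 6] = true := by decide +kernel

theorem base_eq : base = [0, 5, 6, 8] := by decide +kernel

end Cfsg.Agent.Lib.LyDC
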