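import Mathlib
import Cfsg.Agent.Lib.LyDC.Perm
import Cfsg.Agent.Lib.LyDC.Orbit
import Cfsg.Agent.Lib.LyDC.CheckBase
import Cfsg.Agent.Lib.LyDC.CheckCov0
import Cfsg.Agent.Lib.LyDC.CheckChains

/-!
`Hbar` has at least 5859000000 elements; if it has no more, four points form a base.
-/

set_option autoImplicit false

namespace Cfsg.Agent.Lib.LyDC

theorem chain_le : 5859000000 * Nat.card (rep.fixList base : Subgroup Hbar) ≤ Nat.card Hbar := by
  have hfull : countBits cov0M.2 = 19530 := by
    rw [countBits_eq, Finset.filter_true_of_mem fun p hp =>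
      fullMask_spec cov0_full p (Finset.mem_range.1 hp), Finset.card_range]
  have h := orbit_mul_le rep (b := 0) ⊤ (fun g _ => Subgroup.mem_top _) cov0_run
    (by rw [cov0_start]; rfl) hfull
  rw [top_inf_eq, Subgroup.card_top] at h
  have f0 := fix_spec rep (ps := [0]) (by simp) lev1_0_base
  have f1 := fix_spec rep (ps := [0, 5]) (by simp) lev1_1_base
  have f2 := fix_spec rep (ps := [0, 5, 6]) (by simp) lev1_2_base
  have h0 := orbit_mul_le rep (rep.fixList [0]) f0 lev1_0_run lev1_0_start lev1_0_count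
  have h1 := orbit_mul_le rep (rep.fixList [0] ⊓ rep.fixList [5])
    (fun g hg => ⟨fun p hp => f1 g hg p (by simp_all), fun p hp => f1 g hg p (by simp_all)⟩)
    lev1_1_run lev1_1_start lev1_1_count
  have h2 := orbit_mul_le rep (rep.fixList [0] ⊓ rep.fixList [5] ⊓ rep.fixList [6])
    (fun g hg => ⟨⟨fun p hp => f2 g hg p (by simp_all), fun p hp => f2 g hg p (by simp_all)⟩,
      fun p hp => f2 g hg p (by simp_all)⟩)
    lev1_2_run lev1_2_start lev1_2_count
  have e : rep.fixList [0] ⊓ rep.fixList [5] ⊓ rep.fixList [6] ⊓ rep.fixList [8] =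
      rep.fixList base := by
    rw [base_eq]
    ext g
    show (((∀ p ∈ [0], rep.pt g p = p) ∧ ∀ p ∈ [5], rep.pt g p = p) ∧ ∀ p ∈ [6], rep.pt g p = p) ∧
      (∀ p ∈ [8], rep.pt g p = p) ↔ ∀ p ∈ [0, 5, 6, 8], rep.pt g p = p
    simp [and_assoc]
  rw [e] at h2
  omega

theorem card_Hbar_ge : 5859000000 ≤ Nat.card Hbar := by
  have h := chain_le
  have := Nat.card_pos (α := (rep.fixList base : Subgroup Hbar))
  calc 5859000000 ≤ 5859000000 * Nat.card (rep.fixList base : Subgroup Hbar) :=
        Nat.le_mul_of_pos_right _ this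
    _ ≤ _ := h

theorem baseInj_of_card_le (hc : Nat.card Hbar ≤ 5859000000) : BaseInj := by
  have h := chain_le
  have h1 : Nat.card (rep.fixList base : Subgroup Hbar) ≤ 1 := by omega
  have h2 : rep.fixList base = ⊥ := Subgroup.card_eq_one.1 (le_antisymm h1 Nat.card_pos)
  intro g hg
  have : g ∈ rep.fixList base := (rep.imgs_eq_iff g base).1 hg
  rw [h2] at this
  exact this

end Cfsg.Agent.Lib.LyDC
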