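import Mathlib
import Cfsg.Agent.Lib.LyDC.Deriv
import Cfsg.Agent.Lib.LyDC.CheckTokens
import Cfsg.Agent.Lib.LyMult97.Main

/-!
The relators 73-82 and 84 of the Lyons presentation give the data used by the derivation.
-/

set_option autoImplicit false
set_option linter.unusedSimpArgs false

namespace Cfsg.Agent.Lib.LyDC

open Cfsg Cfsg.Spor
open Cfsg.Agent.Lib.LyMult97 (genVal)

/-- the relators used: all up to the 84th but the 83rd -/
def RelsHold {G : Type*} [Group G] (A B C D Z : G) : Prop :=
  ∀ i : ℕ, i ≠ 82 → i < 84 → ∀ r, Ly.extra[i]? = some r →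
    FreeGroup.lift (genVal A B C D Z) r = 1

variable {G : Type} [Group G] {A B C D Z : G}

/-- the value of a letter -/
def letterVal (A B C D : G) (l : ℕ) : G := [A, A⁻¹, B, B⁻¹, C, C⁻¹, D, D⁻¹].getD l 1

/-- a map from `Hbar` with the four given values on the generators -/
structure Maps (φ : Hbar →* G) (A B C D : G) : Prop where
  ha : φ (rep.f 0) = A
  hb : φ (rep.f 2) = B
  hc : φ (rep.f 4) = C
  hd : φ (rep.f 6) = D

theorem Maps.ev_eq {φ : Hbar →* G} (m : Maps φ A B C D) (u : List ℕ) :
    φ (rep.ev u) = ((decode u).map (letterVal A B C D)).prod := by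
  have key : ∀ l < 8, φ (rep.f l) = letterVal A B C D l := by
    intro l hl
    interval_cases l
    · exact m.ha
    · rw [show (1 : ℕ) = 0 ^^^ 1 from rfl, rep_inv (by decide), map_inv, m.ha]; rfl
    · exact m.hb
    · rw [show (3 : ℕ) = 2 ^^^ 1 from rfl, rep_inv (by decide), map_inv, m.hb]; rfl
    · exact m.hc
    · rw [show (5 : ℕ) = 4 ^^^ 1 from rfl, rep_inv (by decide), map_inv, m.hc]; rfl
    · exact m.hd
    · rw [show (7 : ℕ) = 6 ^^^ 1 from rfl, rep_inv (by decide), map_inv, m.hd]; rfl
  rw [Rep.ev, map_list_prod, List.map_map]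
  exact congrArg List.prod (List.map_congr_left fun l hl => key l (mem_decode_lt hl))

theorem tok_rel {X Y : G} (e : Z⁻¹ * X * Z * Y⁻¹ = 1) : X * Z = Z * Y :=
  calc X * Z = Z * (Z⁻¹ * X * Z * Y⁻¹) * Y := by group
    _ = Z * Y := by rw [e, mul_one]

theorem even_tok {φ : Hbar →* G} (m : Maps φ A B C D) (h : RelsHold A B C D Z) :
    ∀ k < 8, φ (rep.ev (nth [] tokWords (2 * k))) * Z = Z * φ (rep.ev (nth [] imgWords (2 * k))) := by
  intro k hk
  rw [m.ev_eq, m.ev_eq]
  interval_cases k
  · rw [show decode (nth [] tokWords (2 * 0)) = [4] by decide +kernel,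
      show decode (nth [] imgWords (2 * 0)) = [1, 3, 1, 2, 5, 3, 0, 5, 2, 0] by decide +kernel]
    have e := h 72 (by decide) (by decide) _ rfl
    simp only [map_mul, map_inv, map_pow, FreeGroup.lift_apply_of, genVal] at e
    simpa [letterVal, mul_assoc, pow_succ, mul_inv_rev] using tok_rel e
  · rw [show decode (nth [] tokWords (2 * 1)) = [1, 4, 0] by decide +kernel,
      show decode (nth [] imgWords (2 * 1)) = [3, 3, 0, 4, 1, 2, 4, 2] by decide +kernel]
    have e := h 73 (by decide) (by decide) _ rfl
    simp only [map_mul, map_inv, map_pow, FreeGroup.lift_apply_of, genVal] at e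
    simpa [letterVal, mul_assoc, pow_succ, mul_inv_rev] using tok_rel e
  · rw [show decode (nth [] tokWords (2 * 2)) = [3, 4, 2] by decide +kernel,
      show decode (nth [] imgWords (2 * 2)) = [1, 3, 1, 4, 0, 2, 0] by decide +kernel]
    have e := h 74 (by decide) (by decide) _ rfl
    simp only [map_mul, map_inv, map_pow, FreeGroup.lift_apply_of, genVal] at e
    simpa [letterVal, mul_assoc, pow_succ, mul_inv_rev] using tok_rel e
  · rw [show decode (nth [] tokWords (2 * 3)) = [2, 4, 3] by decide +kernel,
      show decode (nth [] imgWords (2 * 3)) = [3, 1, 2, 4, 3, 0, 2] by decide +kernel]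
    have e := h 75 (by decide) (by decide) _ rfl
    simp only [map_mul, map_inv, map_pow, FreeGroup.lift_apply_of, genVal] at e
    simpa [letterVal, mul_assoc, pow_succ, mul_inv_rev] using tok_rel e
  · rw [show decode (nth [] tokWords (2 * 4)) = [5, 1, 5, 0, 4, 1, 4, 0] by decide +kernel,
      show decode (nth [] imgWords (2 * 4)) = [2, 2, 1, 3, 4, 2, 0, 4, 3, 3, 5] by decide +kernel]
    have e := h 76 (by decide) (by decide) _ rfl
    simp only [map_mul, map_inv, map_pow, FreeGroup.lift_apply_of, genVal] at e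
    simpa [letterVal, mul_assoc, pow_succ, mul_inv_rev] using tok_rel e
  · rw [show decode (nth [] tokWords (2 * 5)) = [0] by decide +kernel,
      show decode (nth [] imgWords (2 * 5)) = [1, 1, 1] by decide +kernel]
    have e := h 77 (by decide) (by decide) _ rfl
    simp only [map_mul, map_inv, map_pow, FreeGroup.lift_apply_of, genVal] at e
    simpa [letterVal, mul_assoc, pow_succ, mul_inv_rev] using tok_rel e
  · rw [show decode (nth [] tokWords (2 * 6)) = [2, 0, 3] by decide +kernel,
      show decode (nth [] imgWords (2 * 6)) = [2, 1, 3, 1, 1] by decide +kernel]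
    have e := h 78 (by decide) (by decide) _ rfl
    simp only [map_mul, map_inv, map_pow, FreeGroup.lift_apply_of, genVal] at e
    simpa [letterVal, mul_assoc, pow_succ, mul_inv_rev] using tok_rel e
  · rw [show decode (nth [] tokWords (2 * 7)) = [2, 2, 0, 3, 3] by decide +kernel,
      show decode (nth [] imgWords (2 * 7)) = [0, 2, 2, 0, 3, 3, 1] by decide +kernel]
    have e := h 79 (by decide) (by decide) _ rfl
    simp only [map_mul, map_inv, map_pow, FreeGroup.lift_apply_of, genVal] at e
    simpa [letterVal, mul_assoc, pow_succ, mul_inv_rev] using tok_rel e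

theorem all_tok (hI : BaseInj) {φ : Hbar →* G} (m : Maps φ A B C D) (h : RelsHold A B C D Z) :
    ∀ k < 16, φ (rep.ev (nth [] tokWords k)) * Z = Z * φ (rep.ev (nth [] imgWords k)) := by
  intro k hk
  rcases Nat.mod_two_eq_zero_or_one k with h2 | h2
  · have := even_tok m h (k / 2) (by omega)
    rwa [show 2 * (k / 2) = k by omega] at this
  · have e := even_tok m h (k / 2) (by omega)
    rw [show 2 * (k / 2) = k - 1 by omega] at e
    have t := rangeB_spec tok_inv (k - 1) (Nat.zero_le _) (by omega)
    have hx : Nat.xor (k - 1) 1 = k := by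
      obtain ⟨n, rfl⟩ : ∃ n, k = 2 * n + 1 := ⟨k / 2, by omega⟩
      have : n < 8 := by omega
      interval_cases n <;> rfl
    rw [band_eq, Bool.and_eq_true, hx] at t
    have t1 := rep.eq_of_same base_lt hI t.1
    have t2 := rep.eq_of_same base_lt hI t.2
    rw [rep.ev_append, rep.ev_nil, mul_eq_one_iff_inv_eq] at t1 t2
    rw [← t1, ← t2, map_inv, map_inv, inv_mul_eq_iff_eq_mul, ← mul_assoc, e, mul_inv_cancel_right]

theorem u_eq {φ : Hbar →* G} (m : Maps φ A B C D) (h : RelsHold A B C D Z) :
    Z * Z = φ (rep.ev deriv.uW) := by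
  rw [m.ev_eq, show decode deriv.uW = [0, 0] by decide +kernel]
  have e := h 80 (by decide) (by decide) _ rfl
  simp only [map_mul, map_inv, map_pow, FreeGroup.lift_apply_of, genVal, mul_inv_eq_one] at e
  simpa [letterVal, pow_two] using e

theorem forms_eq {φ : Hbar →* G} (m : Maps φ A B C D) (h : RelsHold A B C D Z) :
    ∀ F ∈ deriv.forms, (F.segs.map fun w => φ (rep.ev w.1) * Z).prod * φ (rep.ev F.tail) = 1 := by
  have hu : Z⁻¹ = A⁻¹ * A⁻¹ * Z := by
    have e := u_eq m h
    rw [m.ev_eq, show decode deriv.uW = [0, 0] by decide +kernel] at e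
    simp only [letterVal, List.map_cons, List.map_nil, List.prod_cons, List.prod_nil, mul_one,
      List.getD_cons_zero] at e
    rw [← mul_inv_rev, ← e]; group
  simp only [deriv, List.forall_mem_cons, List.forall_mem_nil, and_true, List.map_cons, List.map_nil,
    List.prod_cons, List.prod_nil, mul_one, m.ev_eq]
  refine ⟨?_, ?_⟩
  · rw [show decode [0x33144] = [3, 3, 0, 2, 2] by decide +kernel,
      show decode [17] = [0, 0] by decide +kernel]
    have e := h 81 (by decide) (by decide) _ rfl
    simp only [map_mul, map_inv, map_pow, FreeGroup.lift_apply_of, genVal, pow_succ, pow_zero,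
      one_mul, mul_inv_rev, mul_assoc] at e
    simpa [letterVal, mul_assoc] using e
  · rw [show decode [34] = [1, 1] by decide +kernel, show decode [552] = [7, 1, 1] by decide +kernel,
      show decode [0x414414642386423862] = [1, 5, 7, 2, 1, 3, 5, 7, 2, 1, 3, 5, 3, 0, 3, 3, 0, 3] by
        decide +kernel,
      show decode [7] = [6] by decide +kernel,
      show decode [0x5357445745351633233231] =
        [0, 2, 1, 2, 2, 1, 2, 2, 5, 0, 4, 2, 4, 3, 6, 4, 3, 3, 6, 4, 2, 4] by decide +kernel]
    have e := h 83 (by decide) (by decide) _ rfl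
    simp only [map_mul, map_inv, map_pow, FreeGroup.lift_apply_of, genVal, hu, pow_two, mul_inv_rev,
      mul_assoc] at e
    simpa [letterVal, mul_assoc] using e

/-- the data of the derivation in a group with the relations -/
noncomputable def ctxOf (hI : BaseInj) {φ : Hbar →* G} (m : Maps φ A B C D)
    (h : RelsHold A B C D Z) : Ctx G where
  φ := φ
  z := Z
  inj := hI
  tok := all_tok hI m h
  uz := u_eq m h
  rel := forms_eq m h

theorem Maps.range_eq {φ : Hbar →* G} (m : Maps φ A B C D) :
    φ.range = Subgroup.closure ({A, B, C, D} : Set G) := by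
  have e : Subgroup.closure ({rep.f 0, rep.f 2, rep.f 4, rep.f 6} : Set Hbar) = ⊤ := by
    apply Subgroup.map_injective Hbar.subtype_injective
    rw [MonoidHom.map_closure, ← MonoidHom.range_eq_map, Subgroup.range_subtype]
    simp only [Set.image_insert_eq, Set.image_singleton, Subgroup.coe_subtype]
    rfl
  rw [MonoidHom.range_eq_map, ← e, MonoidHom.map_closure]
  simp [Set.image_insert_eq, Set.image_singleton, m.ha, m.hb, m.hc, m.hd]

end Cfsg.Agent.Lib.LyDC
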