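import Mathlib
import Cfsg.Agent.Lib.LyDC.Bound
import Cfsg.Agent.Lib.LyDC.Base
import Cfsg.Agent.Lib.LyDC.FromRel

/-!
The upper bound: a group generated by images of `a, b, c, d, z` with the relators 1-82 and 84 has
at most 51765179004000000 elements, and the image of `<a, b, c, d>` has index at most 8835156.
-/

set_option autoImplicit false

namespace Cfsg.Agent.Lib.LyDC

open Cfsg.Agent.Lib.LyMult97 (genVal genVal_map)
open Cfsg.Spor

namespace Ctx

variable {G : Type} [Group G] (C : Ctx G)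

/-- five double cosets, for left cosets -/
theorem cover_left (hc : Nat.card Hbar ≤ 5859000000)
    (hgen : Subgroup.closure ((C.φ.range : Set G) ∪ {C.z}) = ⊤) (g : G) :
    ∃ j < 5, ∃ h k : Hbar, g = C.φ h * (C.W j)⁻¹ * C.φ k := by
  obtain ⟨j, hj, h, hr⟩ := C.reach_all hc hgen g⁻¹
  obtain ⟨k, hk⟩ := hr
  refine ⟨j, hj, h⁻¹, k⁻¹, ?_⟩
  rw [map_inv, map_inv, hk]
  group

/-- the index of the image of `Hbar` -/
theorem index_le (hc : Nat.card Hbar = 5859000000)
    (hgen : Subgroup.closure ((C.φ.range : Set G) ∪ {C.z}) = ⊤) :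
    Finite (G ⧸ C.φ.range) ∧ C.φ.range.index ≤ 8835156 := by
  let f : (Σ j : Fin 5, Hbar ⧸ C.S j) → G ⧸ C.φ.range := fun x =>
    QuotientGroup.mk (C.φ x.2.out * (C.W x.1)⁻¹)
  have hf : Function.Surjective f := by
    intro q
    induction q using QuotientGroup.induction_on with
    | _ g =>
      obtain ⟨j, hj, h, k, rfl⟩ := C.cover_left hc.le hgen g
      refine ⟨⟨⟨j, hj⟩, QuotientGroup.mk h⟩, ?_⟩
      obtain ⟨s, hs⟩ := QuotientGroup.mk_out_eq_mul (C.S j) h
      refine QuotientGroup.eq.2 ?_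
      show (C.φ (QuotientGroup.mk h : Hbar ⧸ C.S j).out * (C.W j)⁻¹)⁻¹ *
        (C.φ h * (C.W j)⁻¹ * C.φ k) ∈ C.φ.range
      obtain ⟨r, hr⟩ := (s⁻¹).2
      have e : C.φ (s⁻¹ : C.S j).1 = (C.W j)⁻¹ * (C.φ r * C.W j) := by
        rw [hr]; group
      refine ⟨r * k, ?_⟩
      rw [hs]
      simp only [map_mul]
      rw [Subgroup.coe_inv, map_inv, inv_eq_iff_eq_inv] at e
      rw [e]; simp [mul_assoc]
  have hfin : Finite (G ⧸ C.φ.range) := Finite.of_surjective f hf
  refine ⟨hfin, ?_⟩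
  have hq : ∀ j : Fin 5, Nat.card (Hbar ⧸ C.S j) * stabOrder j ≤ 5859000000 := by
    intro j
    rw [← hc, Subgroup.card_eq_card_quotient_mul_card_subgroup (C.S j)]
    exact Nat.mul_le_mul_left _ (C.stabOrder_le hc j j.2)
  calc C.φ.range.index = Nat.card (G ⧸ C.φ.range) := rfl
    _ ≤ Nat.card (Σ j : Fin 5, Hbar ⧸ C.S j) := Nat.card_le_card_of_surjective f hf
    _ = ∑ j : Fin 5, Nat.card (Hbar ⧸ C.S j) := Nat.card_sigma
    _ ≤ 8835156 := by
      have h0 := hq 0
      have h1 := hq 1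
      have h2 := hq 2
      have h3 := hq 3
      have h4 := hq 4
      simp only [stabOrder, Fin.val_zero, Fin.val_one, show ((2 : Fin 5) : ℕ) = 2 from rfl,
        show ((3 : Fin 5) : ℕ) = 3 from rfl, show ((4 : Fin 5) : ℕ) = 4 from rfl] at h0 h1 h2 h3 h4
      rw [Fin.sum_univ_five]
      simp only [Fin.val_zero, Fin.val_one, show ((2 : Fin 5) : ℕ) = 2 from rfl,
        show ((3 : Fin 5) : ℕ) = 3 from rfl, show ((4 : Fin 5) : ℕ) = 4 from rfl]
      omega

/-- the order of a group generated by the image of `Hbar` and `z` -/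
theorem card_le (hc : Nat.card Hbar = 5859000000)
    (hgen : Subgroup.closure ((C.φ.range : Set G) ∪ {C.z}) = ⊤) :
    Finite G ∧ Nat.card G ≤ 51765179004000000 := by
  obtain ⟨hfin, hi⟩ := C.index_le hc hgen
  have : Finite C.φ.range := Finite.of_surjective C.φ.rangeRestrict C.φ.rangeRestrict_surjective
  have hG : Finite G := Finite.of_equiv _ (Subgroup.groupEquivQuotientProdSubgroup (s := C.φ.range)).symm
  refine ⟨hG, ?_⟩
  have h1 : Nat.card C.φ.range ≤ 5859000000 := hc ▸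
    Nat.card_le_card_of_surjective C.φ.rangeRestrict C.φ.rangeRestrict_surjective
  rw [← C.φ.range.index_mul_card]
  calc C.φ.range.index * Nat.card C.φ.range ≤ 8835156 * 5859000000 := Nat.mul_le_mul hi h1
    _ = _ := by norm_num

end Ctx

variable {G : Type} [Group G] {A B C D Z : G}

/-- a group with the relations is generated by the image of `Hbar` and `z` -/
theorem gen_top (hI : BaseInj) {φ : Hbar →* G} (m : Maps φ A B C D) (h : RelsHold A B C D Z)
    (hgen : Subgroup.closure ({A, B, C, D, Z} : Set G) = ⊤) :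
    Subgroup.closure (((ctxOf hI m h).φ.range : Set G) ∪ {(ctxOf hI m h).z}) = ⊤ := by
  refine top_unique (hgen ▸ (Subgroup.closure_le _).2 ?_)
  have hr : ∀ l, φ (rep.f l) ∈ Subgroup.closure ((φ.range : Set G) ∪ {Z}) := fun l =>
    Subgroup.subset_closure (Or.inl ⟨_, rfl⟩)
  rintro x (rfl | rfl | rfl | rfl | rfl)
  · exact m.ha ▸ hr 0
  · exact m.hb ▸ hr 2
  · exact m.hc ▸ hr 4
  · exact m.hd ▸ hr 6
  · exact Subgroup.subset_closure (Or.inr rfl)

/-- the upper bound inside an arbitrary group -/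
theorem closure_card_le (hc : Nat.card Hbar = 5859000000) {φ : Hbar →* G} (m : Maps φ A B C D)
    (h : RelsHold A B C D Z) :
    Finite (Subgroup.closure ({A, B, C, D, Z} : Set G)) ∧
      Nat.card (Subgroup.closure ({A, B, C, D, Z} : Set G)) ≤ 51765179004000000 := by
  let K := Subgroup.closure ({A, B, C, D, Z} : Set G)
  have hA : A ∈ K := Subgroup.subset_closure (Set.mem_insert _ _)
  have hB : B ∈ K := Subgroup.subset_closure (Set.mem_insert_of_mem _ (Set.mem_insert _ _))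
  have hC : C ∈ K := Subgroup.subset_closure
    (Set.mem_insert_of_mem _ (Set.mem_insert_of_mem _ (Set.mem_insert _ _)))
  have hD : D ∈ K := Subgroup.subset_closure
    (Set.mem_insert_of_mem _ (Set.mem_insert_of_mem _ (Set.mem_insert_of_mem _ (Set.mem_insert _ _))))
  have hZ : Z ∈ K := Subgroup.subset_closure (Set.mem_insert_of_mem _ (Set.mem_insert_of_mem _
    (Set.mem_insert_of_mem _ (Set.mem_insert_of_mem _ (Set.mem_singleton _)))))
  have hle : φ.range ≤ K := by
    rw [m.range_eq, Subgroup.closure_le]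
    rintro x (rfl | rfl | rfl | rfl) <;> assumption
  let ψ : Hbar →* K := φ.codRestrict K fun x => hle ⟨x, rfl⟩
  have m' : Maps ψ ⟨A, hA⟩ ⟨B, hB⟩ ⟨C, hC⟩ ⟨D, hD⟩ :=
    ⟨Subtype.ext m.ha, Subtype.ext m.hb, Subtype.ext m.hc, Subtype.ext m.hd⟩
  have h' : RelsHold (⟨A, hA⟩ : K) ⟨B, hB⟩ ⟨C, hC⟩ ⟨D, hD⟩ ⟨Z, hZ⟩ := by
    intro i h1 h2 r hr
    refine K.subtype_injective ?_
    rw [map_one, ← h i h1 h2 r hr]
    exact DFunLike.congr_fun (FreeGroup.ext_hom (K.subtype.comp (FreeGroup.lift _))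
      (FreeGroup.lift (genVal A B C D Z)) fun x => by
        simpa using genVal_map K.subtype (⟨A, hA⟩ : K) ⟨B, hB⟩ ⟨C, hC⟩ ⟨D, hD⟩ ⟨Z, hZ⟩ x) r
  refine (ctxOf (baseInj_of_card_le hc.le) m' h').card_le hc (gen_top _ m' h' ?_)
  apply Subgroup.map_injective K.subtype_injective
  rw [MonoidHom.map_closure, ← MonoidHom.range_eq_map, Subgroup.range_subtype]
  congr 1
  simp [Set.image_insert_eq, Set.image_singleton]

end Cfsg.Agent.Lib.LyDC
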