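import Cfsg.Agent.Lib.LyDC.DerivK

/-!
Generated: the derivation of the coset equations of the presented Lyons group over <a, b, c, d>.
-/

set_option maxRecDepth 100000

namespace Cfsg.Agent.Lib.LyDC

/-- the tokens: generators of the stabiliser of the point 0 and their inverses -/
def tokWords : List (List Nat) := [[5], [6], [338], [354], [852], [868], [1107], [1123], [0x15251626], [0x51526162], [1], [2], [1043], [1059], [0x44133], [0x44233]]

/-- their conjugates by `z` -/
def imgWords : List (List Nat) := [[0x1361463242], [0x1314532542], [0x35325144], [0x33261464], [0x1315242], [0x1316242], [0x3145324], [0x3146324], [0x64451354233], [0x44136426335], [546], [273], [0x22423], [0x41311], [0x2441331], [0x2442331]]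

/-- items 0 .. -/
def items0 : List Item :=
  [⟨true, 0, [1], 0, [], [2]⟩,
   ⟨true, 0, [3], 0, [], [4]⟩,
   ⟨true, 0, [5], 0, [], [6]⟩,
   ⟨true, 0, [7], 0, [], [8]⟩,
   ⟨true, 1, [0x1361463242], 0, [], [0x1314532542]⟩,
   ⟨true, 1, [0x35325144], 0, [], [0x33261464]⟩,
   ⟨true, 1, [0x1315242], 0, [], [0x1316242]⟩,
   ⟨true, 1, [0x3145324], 0, [], [0x3146324]⟩,
   ⟨true, 1, [546], 0, [], [273]⟩,
   ⟨true, 1, [0x22423], 0, [], [0x41311]⟩,
   ⟨true, 1, [0x2441331], 0, [], [0x2442331]⟩,
   ⟨false, 0, [], 1, [], []⟩,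
   ⟨false, 1, [], 0, [17], []⟩,
   ⟨false, 1, [8], 2, [], []⟩,
   ⟨false, 2, [], 1, [1809], []⟩,
   ⟨false, 1, [0x86864145], 3, [], []⟩,
   ⟨false, 3, [], 1, [0x7557231315224636], []⟩,
   ⟨false, 1, [0x3286423], 4, [], []⟩,
   ⟨false, 4, [], 1, [0x7326423], []⟩,
   ⟨false, 1, [802], 1, [0x32424133], []⟩,
   ⟨false, 2, [0x5357445723235444131635], 1, [0x74135442323515261626], []⟩,
   ⟨false, 1, [0x74135442323515261626], 2, [0x53574457325413152441336], []⟩,
   ⟨true, 2, [0x535744574133354424133115251626], 0, [], [0x515261622442313364442386338646]⟩,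
   ⟨false, 3, [0x354423311625], 3, [0x3624133644413135], []⟩,
   ⟨false, 3, [0x3624133644413135], 3, [0x31522454233152], []⟩,
   ⟨false, 2, [0x535744574233245141331364], 1, [0x7463614131162], []⟩,
   ⟨false, 1, [0x7463614131162], 2, [0x53574457133544631354], []⟩,
   ⟨true, 2, [0x57554157413544413135], 0, [], [0x64242333642386236686]⟩,
   ⟨false, 2, [0x32424133], 4, [0x32414133], []⟩,
   ⟨false, 4, [0x32414133], 2, [0x32414133], []⟩,
   ⟨false, 4, [0x3236242413613], 4, [0x332415413364231], []⟩,
   ⟨false, 3, [0x33644253242326], 3, [0x23115241413131], []⟩]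

/-- their reasons -/
def justs0 : List Just :=
  [.gen,
   .gen,
   .gen,
   .gen,
   .tok 0,
   .tok 2,
   .tok 4,
   .tok 6,
   .tok 10,
   .tok 12,
   .tok 14,
   .orb,
   .rev 11,
   .orb,
   .rev 13,
   .orb,
   .rev 15,
   .orb,
   .rev 17,
   .ded 0 0 [] [⟨11, [(1, true)], [11,13,15]⟩] [⟨11, [], [10,10,10,10]⟩],
   .ded 1 0 [0x46353573145153244133] [⟨11, [(1, false), (0, true), (2, false), (0, true), (2, false), (3, true), (1, false)], [12,15,6,4,13,11]⟩, ⟨13, [(10, true), (4, true), (9, false), (4, false)], [14,11]⟩] [⟨11, [(2, true), (1, true), (2, true), (0, true), (2, true), (3, true)], [1,13,0,3,14,13]⟩],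
   .rev 20,
   .clash 1 [0x74135442323515261626] ⟨13, [(10, false), (7, true), (9, false), (4, true)], [10,10,14]⟩ ⟨21, [], []⟩,
   .ded 0 3 [0x42413354231625] [] [⟨16, [], [0,3,14,3,12,14]⟩, ⟨15, [(8, true), (7, true), (8, true)], [2,10,10,6,12,5]⟩],
   .rev 23,
   .ded 1 0 [0x41315152616] [⟨11, [], [12,9]⟩, ⟨13, [(6, false), (4, false), (6, true), (4, true)], [11,11,13]⟩] [⟨11, [(2, true), (1, false), (2, true), (3, true), (1, false), (2, true), (3, true), (1, true)], [12,5,10,7,12]⟩],
   .rev 25,
   .clash 1 [0x7463614131162] ⟨13, [(4, true), (10, false), (5, false), (4, true)], [10,14,12,11]⟩ ⟨26, [], []⟩,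
   .ded 0 4 [0x31414133] [⟨18, [], []⟩, ⟨13, [(4, false), (10, true), (6, true)], [10,10]⟩] [],
   .rev 28,
   .ded 0 2 [0x313364246242313] [⟨28, [], [1,5,14,3]⟩] [⟨28, [(27, true), (27, true), (22, true), (22, true), (27, false), (22, true), (22, true)], [1,12,7,10,5,15]⟩],
   .ded 0 3 [0x4642336162] [] [⟨16, [], [3,1,10,10,14,6]⟩, ⟨15, [(8, false), (8, false)], [0,12,11,5,12]⟩]]

/-- items 32 .. -/
def items1 : List Item :=
  [⟨false, 3, [0x23115241413131], 3, [0x36242354535], []⟩,
   ⟨true, 3, [0x41631152424231315], 0, [], [0x62424131316224523]⟩,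
   ⟨true, 3, [0x226162], 0, [], [0x152511]⟩,
   ⟨true, 3, [0x41313644413355], 0, [], [0x66442333542423]⟩,
   ⟨true, 4, [1059], 0, [], [1043]⟩,
   ⟨false, 4, [0x53574457325413152441336], 3, [0x751354423], []⟩,
   ⟨false, 3, [0x751354423], 4, [0x53574457423336644423315251626], []⟩,
   ⟨false, 3, [0x74252423623], 1, [0x1574135736414531626], []⟩,
   ⟨false, 1, [0x1574135736414531626], 3, [0x74536441336413], []⟩,
   ⟨true, 3, [0x833625741311624133646], 0, [], [0x535442315224238615447]⟩,
   ⟨false, 4, [0x6681574135232463152], 4, [0x415741357413544133151], []⟩,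
   ⟨false, 4, [0x572532574524135324231], 3, [0x15741357354246336444133], []⟩,
   ⟨false, 3, [0x15741357354246336444133], 4, [0x572532576462336425], []⟩,
   ⟨true, 4, [0x7324241331413], 0, [], [0x4232442313148]⟩,
   ⟨false, 1, [0x5835145732644136232], 1, [0x7453257442313], []⟩,
   ⟨false, 4, [0x732423324136], 3, [0x1574135744133614523162], []⟩,
   ⟨false, 3, [0x1574135744133614523162], 4, [0x731413314136], []⟩,
   ⟨true, 4, [0x57572574135232463152], 0, [], [0x16245314164238618686]⟩,
   ⟨false, 3, [0x36675753246423314136], 3, [0x157413574423325413], []⟩,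
   ⟨false, 2, [0x72413544233354413], 4, [0x1574135742311524242336423], []⟩,
   ⟨false, 4, [0x1574135742311524242336423], 2, [0x72423544233354413], []⟩,
   ⟨false, 4, [0x7453525162625], 2, [0x3626733541413162], []⟩,
   ⟨false, 2, [0x3626733541413162], 4, [0x7145131624131], []⟩,
   ⟨false, 4, [0x76246257461413314133646], 4, [0x35516741635463], []⟩,
   ⟨false, 2, [0x754573364141336411], 2, [0x131515742323646325], []⟩,
   ⟨false, 4, [0x516362574133544423314135], 4, [0x864571542452413314135], []⟩,
   ⟨false, 4, [0x533571414131523644131], 4, [0x72424233515255], []⟩,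
   ⟨false, 4, [0x72424233515255], 4, [0x44635357441331623544232], []⟩,
   ⟨false, 4, [0x714631414133], 4, [0x66241673515261623544153], []⟩,
   ⟨false, 4, [0x6626835745242333542], 4, [0x72413162441335354], []⟩,
   ⟨false, 2, [0x358674572423362413644233], 3, [0x15741357115236444233354], []⟩,
   ⟨false, 3, [0x15741357115236444233354], 2, [0x8642445745324241331162], []⟩]

/-- their reasons -/
def justs1 : List Just :=
  [.rev 31,
   .clash 3 [0x23115241413131] ⟨24, [], [2,0,11,6,13]⟩ ⟨32, [], []⟩,
   .clash 1 [0x75723314533544141335] ⟨15, [(5, false), (10, false), (7, false), (8, true), (4, true), (9, false), (4, true), (5, true)], []⟩ ⟨15, [], [0,12,1,7,12]⟩,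
   .clash 1 [0x757133354542325] ⟨15, [(5, false), (5, false), (9, false), (7, true), (9, false), (6, true), (6, true), (5, false)], []⟩ ⟨15, [], [12,0,10,15]⟩,
   .clash 2 [0x314141313] ⟨28, [(27, false), (27, false), (22, true), (27, true), (22, false), (27, false), (27, false), (22, true), (22, true), (27, true)], []⟩ ⟨28, [], [12]⟩,
   .ded 1 1 [0x242313] [⟨19, [], [10,13,11]⟩, ⟨17, [(6, false), (10, false), (4, true)], [10,12,11]⟩] [⟨15, [(10, true), (7, true), (8, true)], [13,1,11,5,11,11]⟩],
   .rev 37,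
   .ded 1 1 [0x1624233644135] [⟨12, [], [13,2,2,13,4]⟩, ⟨11, [(2, false), (1, false), (0, false), (2, true), (0, true), (2, true), (3, true), (1, true)], [11,11]⟩, ⟨15, [(7, true), (8, true)], [13,15,13,2,13,4]⟩] [],
   .rev 39,
   .clash 1 [0x1574135736414531626] ⟨15, [(7, false), (10, true), (7, true), (6, true)], [13,1,11,4,4]⟩ ⟨40, [], []⟩,
   .ded 0 4 [0x4157413573641364162] [⟨37, [], []⟩, ⟨38, [(33, true), (41, true), (41, true), (35, false)], [0,15,13,3,3]⟩] [],
   .ded 1 3 [0x751354423] [⟨38, [], [11,11]⟩] [⟨16, [(41, false), (41, false), (34, true), (41, true)], [14,12,11,4,14,13,7]⟩, ⟨15, [(7, true), (4, false), (6, false)], [12,11,4,3,14,12,11]⟩],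
   .rev 43,
   .clash 3 [0x15741357354246336444133] ⟨38, [(41, true), (34, true), (41, false), (35, true)], [4,10,12,10,14,12,11,3]⟩ ⟨44, [], []⟩,
   .ded 1 2 [0x32423131] [⟨28, [], [12,10,14]⟩, ⟨18, [(45, true)], [10,13,15]⟩] [⟨14, [(22, true), (27, false)], [12,2,14,11]⟩],
   .ded 1 2 [0x313152441331413] [⟨28, [], [5,15]⟩] [⟨14, [(27, true), (27, true)], [0,12,1,10,12,14,12]⟩, ⟨15, [(9, false), (7, true), (10, true), (8, true)], [4,10,7,15,6,12,10]⟩],
   .rev 47,
   .clash 3 [0x1574135744133614523162] ⟨38, [(34, false), (41, true)], [0,12,14,1,13]⟩ ⟨48, [], []⟩,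
   .ded 1 3 [0x441336413] [⟨16, [], [12,1,15]⟩, ⟨17, [(5, false), (6, true), (7, false)], [11,2,12,10,14,12]⟩, ⟨37, [(45, true), (45, true)], [6,10,0,10,10,10]⟩] [],
   .ded 1 4 [0x4241331622413] [⟨18, [], [12,11,3,15,13]⟩, ⟨46, [(10, true), (9, true)], [10,13,2,12]⟩, ⟨13, [(6, true), (10, true), (6, false), (4, false)], [14,12,4,10,14]⟩] [],
   .rev 51,
   .ded 1 1 [0x554425741354442313364441331] [⟨17, [(9, true), (7, false), (8, true), (5, false)], [3,7,4]⟩] [⟨17, [(4, false), (8, true), (9, true), (6, false), (5, true)], [4,11,15,2,0]⟩, ⟨52, [(49, true), (45, false), (36, false), (49, false), (45, true), (45, true)], [2,6,12,10,6]⟩],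
   .rev 53,
   .ded 0 4 [0x352574253525162625] [⟨53, [], [0,6,14,4,7]⟩, ⟨54, [(27, true), (22, true), (22, true), (27, false), (22, true), (22, true), (22, true), (22, true)], [13,4,11,7,12,15]⟩] [],
   .ded 0 2 [0x231616741313646325] [⟨54, [], []⟩, ⟨53, [(36, true), (49, true), (45, false), (36, false), (49, false), (45, true), (36, true)], [11,6,12,10,4]⟩] [],
   .ded 1 4 [0x24452674235441336444233152] [⟨55, [], [4,11,4,11,6]⟩, ⟨52, [(45, true), (45, true), (45, true), (36, true), (36, true), (36, true)], [0,4,10,14,13,2,10]⟩, ⟨54, [(27, false), (22, false), (22, false), (27, false), (27, false), (27, false), (22, true), (22, true)], [5,6,11,13,1]⟩] [],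
   .ded 1 1 [0x5241367] [⟨13, [], [0,12,3,10]⟩, ⟨54, [(22, false), (22, false), (27, false), (22, true), (22, true)], [4,10,5,3,14]⟩] [⟨17, [(8, true), (4, true), (5, true), (9, false)], [15,2,13,11,7,4]⟩],
   .rev 58,
   .ded 1 1 [0x3323574413135152616453364] [⟨17, [], [4,15,13]⟩] [⟨17, [(9, false), (6, true), (4, false), (10, true)], [14,4,2,10,15]⟩, ⟨57, [(45, true), (49, true), (45, true), (45, true), (36, false), (36, false)], [3,4,12,5]⟩],
   .ded 1 1 [0x4515744241336423] [⟨17, [], [1,14,2,0,11]⟩, ⟨58, [(49, false), (45, false), (49, true), (36, false), (36, false), (36, false)], [15,13,2,10,13,7]⟩] [⟨17, [(4, true), (9, false), (8, true), (4, false)], [2,15,1,5,12,10]⟩],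
   .ded 1 3 [0x44233364453152] [⟨16, [], [2,6,5,10,14,11]⟩, ⟨17, [(5, false), (4, false), (10, true), (4, false)], [12,11,15,7,12,11,6]⟩, ⟨53, [(49, true), (36, false), (36, false), (36, false), (49, false), (36, false)], [3,3,1,12,15]⟩] [],
   .rev 62]

/-- items 64 .. -/
def items2 : List Item :=
  [⟨false, 3, [0x15451357442332413152364442336], 4, [0x355252674442333544233642463], []⟩,
   ⟨false, 4, [0x355252674442333544233642463], 3, [0x32464157423152364442336], []⟩,
   ⟨false, 4, [0x2267457364264423131], 3, [0x6844515746315264231], []⟩,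
   ⟨false, 3, [0x6844515746315264231], 4, [0x67457364264423131], []⟩,
   ⟨false, 4, [0x4466267444233513645413], 3, [0x625336763554135], []⟩,
   ⟨false, 3, [0x625336763554135], 4, [0x446167444233513645413], []⟩,
   ⟨false, 4, [0x4454557451513], 4, [0x25463357442335442335423354], []⟩,
   ⟨false, 4, [0x25463357442335442335423354], 4, [0x446645745353641552], []⟩,
   ⟨false, 4, [0x54635746242413315241315], 3, [0x5357445741336354423152], []⟩,
   ⟨false, 3, [0x5357445741336354423152], 4, [0x4535457115242413316242325], []⟩,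
   ⟨false, 4, [0x157457453525], 4, [0x5154615742423314523], []⟩,
   ⟨false, 4, [0x525167233141336444233151526162], 3, [0x75413166244133], []⟩,
   ⟨false, 3, [0x75413166244133], 4, [0x68664573644423324131522], []⟩,
   ⟨true, 3, [0x713532574241413314635], 0, [], [0x645324423231386146428]⟩,
   ⟨false, 3, [0x36753573261624242332], 2, [0x157413571145311364], []⟩,
   ⟨false, 2, [0x157413571145311364], 3, [0x157551576442336442332453], []⟩,
   ⟨false, 3, [0x25413357324413133544413351526162], 4, [0x544557313544423232515261626], []⟩,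
   ⟨false, 4, [0x544557313544423232515261626], 3, [0x63644573542544231315], []⟩,
   ⟨false, 4, [0x8325257453244131351526162], 4, [0x25235731315244133515261662], []⟩,
   ⟨false, 4, [0x25235731315244133515261662], 4, [0x7315257453244131351526162], []⟩,
   ⟨false, 4, [0x5852625733644423231525162662], 3, [0x355257423162241315244233], []⟩,
   ⟨false, 3, [0x355257423162241315244233], 4, [0x546352573162364442335152], []⟩,
   ⟨false, 4, [0x71352357225152616262], 4, [0x3163357441615311], []⟩,
   ⟨false, 3, [0x53574457314131624423315413], 2, [0x7254413131], []⟩,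
   ⟨false, 2, [0x7254413131], 3, [0x53574457311623646423], []⟩,
   ⟨false, 3, [0x35766457162423254236], 3, [0x53661572364442333546], []⟩,
   ⟨false, 3, [0x46253557324131524413336424135], 3, [0x4513574423616324136], []⟩,
   ⟨false, 4, [0x33542572542353162], 4, [0x4535326742423531364463], []⟩,
   ⟨false, 4, [0x4535326742423531364463], 4, [0x336641572542353162], []⟩,
   ⟨false, 3, [0x62362671354423553], 3, [0x4251574133641316453], []⟩,
   ⟨false, 4, [0x25336744133364241542335], 4, [0x455164574413532441353354], []⟩,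
   ⟨false, 4, [0x861641572362364424133], 4, [0x262671441315224413164233], []⟩]

/-- their reasons -/
def justs2 : List Just :=
  [.ded 1 4 [0x8332574135441413314131152] [⟨37, [], [14,0,4,10]⟩] [⟨55, [(49, true), (36, true), (49, true), (45, false), (36, true), (49, true), (36, false)], [5,0,12,7,14,11]⟩, ⟨59, [(45, true), (45, true), (36, false), (36, false), (36, false)], [3,13,7,15,3,12,11]⟩],
   .rev 64,
   .ded 0 3 [0x553683572544236242332] [⟨63, [], [7]⟩, ⟨51, [(27, false), (22, true), (22, true), (27, true), (22, true), (22, true), (27, false), (22, true), (22, true)], [2,10,12,14,11,7,12]⟩] [],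
   .rev 66,
   .ded 1 2 [0x62574574413145131524135] [⟨51, [(27, false), (27, false), (22, true), (27, false), (22, false), (27, true), (22, true)], [0,7,12,15,7,10]⟩] [⟨54, [(27, false), (22, true), (27, false), (22, false), (27, true), (27, true), (22, true), (27, false)], [5,13,5,13,3]⟩, ⟨66, [(36, false), (49, false), (36, false), (36, false), (49, false)], [2,10,5,12,15,7]⟩],
   .rev 68,
   .ded 0 4 [0x15463357442335442335423354] [⟨65, [], [1,5,1,6]⟩, ⟨69, [(41, true), (34, true), (41, true), (35, false)], [12,11,4,14,4]⟩] [],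
   .rev 70,
   .ded 1 3 [0x1574135724241361316] [⟨63, [], []⟩, ⟨54, [], [12,1,10,1,10,14]⟩, ⟨59, [(49, true), (36, true), (36, true), (36, true), (49, true), (36, false)], [12,15,3,12,2,10]⟩] [],
   .rev 72,
   .ded 1 2 [0x3557535723545453152] [⟨56, [], [7,10,9,12,14]⟩, ⟨54, [(22, true), (27, false), (22, false), (22, false), (27, false), (27, false), (22, false), (22, false)], [3,0,12,11,4,15]⟩] [⟨54, [(22, false), (27, false), (27, false), (22, true), (22, true), (27, false), (22, true), (27, false), (22, false)], [2,9,11,13,15,1]⟩],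
   .ded 1 1 [0x235336742413313644141331453] [⟨17, [(9, false), (8, true), (4, false), (5, false)], [14,8,13,4,10,12,15]⟩, ⟨42, [(45, false), (36, false), (49, false), (45, true), (36, true), (49, true), (36, true)], [10,12,7,15,3,12]⟩] [⟨15, [(6, false), (9, false), (8, false), (7, true)], [15,6,13,5,6]⟩],
   .rev 75,
   .loop 0 3 [0x1674245744236323546] [⟨63, [], [10,15,0]⟩, ⟨51, [(27, true), (27, true), (22, false), (22, false), (27, false), (22, true)], [10,4,8,12,14,12]⟩, ⟨66, [], [0,8,10,12,1,11]⟩],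
   .ded 1 2 [0x11151526162453] [⟨14, [], [6,9,10]⟩, ⟨17, [(8, false), (9, false), (5, true), (4, true)], [11,3,13,1,15,3]⟩, ⟨66, [(36, true), (49, true), (45, true), (36, false)], [12,4,3,11,4]⟩] [],
   .rev 78,
   .ded 1 3 [0x63644573542544231315] [] [⟨67, [(35, false), (41, false), (77, false), (35, true), (33, true)], [0,8,12,14,1,14]⟩, ⟨52, [(36, false), (49, false), (36, false), (36, false), (49, false)], [0,2,10,15,3,12,11]⟩, ⟨54, [(22, false), (27, true), (22, true), (22, true), (22, true), (27, false), (22, false)], [10,12,11,6,14,4,13]⟩],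
   .rev 80,
   .ded 1 4 [0x33242413314613162] [⟨30, [], [5,7,10,10,10,10]⟩, ⟨74, [(49, false), (45, false), (36, false), (49, false), (36, true), (36, true)], [2,1,10,15,13,11,6]⟩] [⟨55, [(45, false), (49, true), (45, true), (36, true), (49, true), (45, true)], [5,1,12,14,12]⟩],
   .rev 82,
   .ded 0 4 [0x351463572251526162463152] [⟨60, [(49, true), (45, false), (49, true), (45, true), (36, false)], [14,8,13,4,11,15]⟩] [⟨75, [], [0,2,10,15]⟩],
   .rev 84,
   .ded 0 3 [0x36755257441316313645] [⟨73, [], [9]⟩] [⟨73, [(34, true), (41, true), (33, true), (35, true), (33, true)], [0,8,11,13,6,11]⟩],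
   .ded 1 1 [0x7351457442354413366] [⟨46, [], [0,11,11]⟩, ⟨15, [(8, false), (8, false)], [6,12,3,12,10]⟩] [⟨13, [(8, true), (5, false), (6, false), (4, true)], [10,12,7,10,1,15]⟩],
   .rev 87,
   .ded 0 4 [0x1453674541532424133] [⟨84, [], [13,4,13,15,13,7]⟩] [⟨75, [(49, true), (45, false), (36, false), (49, false)], [1,10,12,5,10,15,6]⟩],
   .ded 1 2 [0x254267424133162245131] [⟨62, [], [1,8,11,11]⟩] [⟨51, [(27, false), (22, true), (22, true), (27, false), (22, true), (27, false)], [2,0,13,1,11,15,13]⟩, ⟨66, [(49, false), (45, true), (36, false), (49, false), (36, false)], [7,10,15,6,12,10,15]⟩],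
   .ded 1 3 [0x236415715235414135] [⟨64, [], [12,15]⟩] [⟨89, [(77, false), (34, false), (35, false)], [6,14,13,2,10,13]⟩, ⟨69, [(41, false), (34, true), (34, true)], [10,7,13,15,0,11]⟩],
   .rev 91,
   .ded 1 3 [0x16452367423642315244233] [⟨76, [], [0,5,11,5,5]⟩, ⟨72, [(49, true), (45, false), (36, false), (49, false), (45, true)], [5,10,4,14,4,12]⟩, ⟨50, [(77, true), (41, false), (33, true)], [0,12,8,14,7]⟩] [],
   .ded 1 4 [0x546352573162364442335152] [⟨84, [], []⟩, ⟨67, [(41, true), (77, true), (33, true), (35, false)], [2,11,2,14,2,13]⟩, ⟨91, [(45, true), (49, true), (36, true), (36, true), (49, true)], [13,3,11,2,13]⟩] [],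
   .ded 1 4 [0x4676457146423613364] [⟨42, [(45, true), (49, true), (45, true), (36, false), (49, false), (36, false)], [10,13,2,15,13,11,4]⟩, ⟨60, [(45, true), (49, false), (45, true), (36, true), (36, true), (49, true), (45, true)], [2,5,11,11]⟩, ⟨58, [(49, false), (45, true), (49, true), (45, true), (36, false), (36, false)], [6,0,13,3,13,11]⟩] []]

/-- items 96 .. -/
def items3 : List Item :=
  [⟨false, 3, [0x866745741315244233245136], 2, [0x767615732413354454133], []⟩,
   ⟨false, 2, [0x767615732413354454133], 3, [0x767455742316244133145136], []⟩,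
   ⟨false, 2, [0x732424133], 2, [0x3673514574413315251624131625], []⟩,
   ⟨false, 2, [0x736441663152], 2, [0x316645741354442325315], []⟩]

/-- their reasons -/
def justs3 : List Just :=
  [.ded 1 2 [0x451413572423351413] [⟨88, [], [2,13,0,13]⟩] [⟨51, [(22, false), (22, false), (27, true), (27, true), (27, true), (22, false), (27, true)], [6,15,0,3,10]⟩, ⟨53, [(36, true), (49, true), (45, true), (36, true), (49, true), (36, false)], [0,2,10,12,2,2,14]⟩],
   .rev 96,
   .ded 1 4 [0x31414133] [⟨29, [], []⟩] [⟨37, [(45, false), (45, false), (36, true)], [3,12,14,13]⟩, ⟨87, [(41, true)], [2,10,13,11,5]⟩],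
   .ded 1 1 [0x136467141311] [⟨13, [], [1,5,13]⟩] [⟨17, [(4, false), (4, false), (7, false), (7, false)], [13,15,6,12,11,7,13]⟩, ⟨53, [(49, false), (36, false), (36, false), (49, false), (45, false), (36, true)], [0,11,13,15,7,10]⟩]]

/-- the derivation -/
def deriv : Deriv where
  tokW := tokWords
  imgW := imgWords
  forms := [⟨[([0x33144], [0x33244]), ([0x33144], [0x33244]), ([0x33144], [0x33244])], [17], [34]⟩, ⟨[([34], [17]), ([552], [1809]), ([0x414414642386423862], [0x157413574135323323]), ([7], [8])], [0x5357445745351633233231], [0x2414414452646386338646]⟩]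
  uW := [17]
  uI := [34]
  par := [(0, []), (1, [8]), (1, [0x86864145]), (1, [0x3286423])]
  items := [items0, items1, items2, items3]
  justs := [justs0, justs1, justs2, justs3]

/-- the number of items -/
def numItems : Nat := 100

end Cfsg.Agent.Lib.LyDC
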